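import Cfsg.Agent.Lib.RankOne.InvolLevi.Step

/-!
Certificates with a further kind of node: a Weyl group element applied to a set of roots that need
not commute, the image being collected.
-/

set_option autoImplicit false
set_option linter.unusedSectionVars false

namespace Cfsg.Agent.Lib.RankOne.InvolLevi

open Cfsg.Lie Cfsg.Agent.Lib.Chev Cfsg.Agent.Lib.Chev.Tw

/-- The image of the letters of a state under the word of a node. -/
def imgW (D : ChevalleyDatum) (T : Tables) (v : ℕ) : Wd :=
  ((List.range (npos D)).filter fun i => (nS v).testBit i).map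
    fun i => (wl T (mvWord v) (npos D + i) - npos D, [pr i])

def chkMoveRes (D : ChevalleyDatum) (cert : BT) (id v : ℕ) (w : Wd) (full : List ℕ) : Bool :=
  okKid (npos D) cert id (fld v 5) (fun i => full.contains i)
    (fun i => anyLt (npos D) fun q => (nN v).testBit q && look w i == [pr q])

def chkMoveG (D : ChevalleyDatum) (T : Tables) (rk : ℕ) (tb cert : BT) (id v : ℕ) : Bool :=
  let w := collect (npos D) tb (npos D) (imgW D T v)
  let full := acollect (npos D) tb ((imgW D T v).map Prod.fst)
  (mvWord v).all (fun i => decide (i < D.rank) && decide (i < rk)) &&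
    (allLt (npos D) fun i => !(nS v).testBit i ||
      decide (npos D ≤ wl T (mvWord v) (npos D + i))) &&
    descB (w.map Prod.fst) (npos D) && descB full (npos D) && chkMoveRes D cert id v w full

/-- A node of one of the seven kinds. -/
def chkNodeG (D : ChevalleyDatum) (T : Tables) (LA rk : ℕ) (tb cert : BT) (reps : List ℕ)
    (id : ℕ) : Bool :=
  if fld (cert.get id) 0 = 6 then chkMoveG D T rk tb cert id (cert.get id)
  else chkNode D T LA rk tb cert reps id

variable {D : ChevalleyDatum} {T : Tables} {K : Type*} [Field K] {G : Good D T}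
  {Gl : GL D.Idx K → Prop} {tb : BT} {reps : List ℕ} {LA rk : ℕ}

theorem sound_moveG (Y : Setting G K Gl tb reps LA rk) {cert : BT} {id v : ℕ}
    (h : chkMoveG D T rk tb cert id v = true) (ih : ∀ c < id, Sem G Gl (cert.get c)) :
    Sem G Gl v := by
  intro f h0 h1 hu
  simp only [chkMoveG, Bool.and_eq_true, decide_eq_true_eq, List.all_eq_true] at h
  obtain ⟨⟨⟨⟨hl, himg⟩, hdw⟩, hdf⟩, hres⟩ := h
  have he := G.even_n
  have hlW : IsW D (mvWord v) := fun i hi => (hl i hi).1
  set nw := G.nl K (mvWord v) with hnw
  set vv := vals (npos D) f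
  have eW : wev G vv (imgW D T v) = nw * Ok G (npos D) f * nw⁻¹ := by
    rw [← wev_stL Y.small (nS v) vv f (fun i hi => vals_pr Y.small hi f) h0]
    show _ = MulAut.conj nw (wev G vv (stL (npos D) (nS v)))
    rw [wev, wev, map_list_prod, imgW, stL, List.map_map, List.map_map, List.map_map]
    refine congrArg List.prod (List.map_congr_left fun i hi => ?_)
    obtain ⟨hi', hiS⟩ := List.mem_filter.1 hi
    rw [List.mem_range] at hi'
    have ha := allLt_eq_true himg i hi'
    simp only [hiS, Bool.not_true, Bool.false_or, decide_eq_true_eq] at ha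
    have hlt := G.wl_lt hlW (add_npos_lt G hi')
    simp only [Function.comp_apply, lev, MulAut.conj_apply]
    rw [Xr_of_lt G hi', hnw, G.nl_conj_X hlW (add_npos_lt G hi'), Xr_of_lt G (by omega)]
    congr 1
    · omega
    · rcases el_eq_or (T := T) (mvWord v) (npos D + i) with e | e
      · simp [e]
      · rw [e]; push_cast; linear_combination (pev vv [pr i]) * Y.two
  obtain ⟨d, hdd, hd0⟩ := RW_desc G (npos D) _ _ hdf (acollect_spec G Y.two Y.tab vv (imgW D T v))
  have e := collect_spec G Y.two Y.tab vv (npos D) (imgW D T v)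
  rw [wev_desc G _ (npos D) _ hdw, hdd] at e
  have hu' : Ok G (npos D) d * Ok G (npos D) d = 1 := by
    rw [← hdd, eW, show nw * Ok G (npos D) f * nw⁻¹ * (nw * Ok G (npos D) f * nw⁻¹) =
      nw * (Ok G (npos D) f * Ok G (npos D) f) * nw⁻¹ by group, hu, mul_one, mul_inv_cancel]
  have conjW : ∀ (m : List ℕ), (∀ i ∈ m, i < D.rank ∧ i < rk) → ∀ u,
      Gl (G.nl K m * u * (G.nl K m)⁻¹) → Gl u := by
    intro m
    induction m with
    | nil => intro _ u hG; simpa [G.nl_nil] using hG
    | cons a m ihm =>
      intro hm u hG
      obtain ⟨ha1, ha2⟩ := hm a List.mem_cons_self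
      refine ihm (fun x hx => hm x (List.mem_cons_of_mem _ hx)) u (Y.conjN a ha2 ha1 _ ?_)
      convert hG using 1
      rw [G.nl_cons]
      group
  refine conjW (mvWord v) hl _ ?_
  rw [← hnw, ← eW, hdd]
  refine kid hres ih (fun i hi e' => ?_) (fun i hi e' => ?_) hu'
  · exact hd0 i (by simpa using e')
  · obtain ⟨q, hq, hq'⟩ := anyLt_eq_true e'
    simp only [Bool.and_eq_true, beq_iff_eq] at hq'
    rw [← Ok_inj G e hi hi.le, hq'.2, pev_single,
      mev_prime _ (pr_facts q (by have := Y.small; omega)).2, show vv (pr q) = f q from vals_pr Y.small hq f]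
    exact h1 q hq hq'.1

/-- The states of a checked certificate satisfy the predicate. -/
theorem classifyG (Y : Setting G K Gl tb reps LA rk) (cert : BT) (num : ℕ)
    (hchk : ∀ id < num, chkNodeG D T LA rk tb cert reps id = true) :
    ∀ id < num, Sem G Gl (cert.get id) := by
  intro id
  induction id using Nat.strong_induction_on with
  | _ id ih =>
    intro hid
    have h := hchk id hid
    unfold chkNodeG at h
    split at h
    · exact sound_moveG Y h fun c hc => ih c hc (hc.trans hid)
    · exact sound_node Y h fun c hc => ih c hc (hc.trans hid)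

end Cfsg.Agent.Lib.RankOne.InvolLevi
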