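import Cfsg.Agent.Lib.RankOne.InvolLevi.CertE8Lev
import Cfsg.Agent.Lib.RankOne.InvolLevi.TabCertE8
import Cfsg.Agent.Lib.RankOne.InvolLevi.MoveG
import Cfsg.Agent.Lib.Chev.DataE8

/-!
The certificate cert8Lev passes the checks on the nodes from 2304 to 3072.
-/

set_option autoImplicit false
set_option maxRecDepth 100000

namespace Cfsg.Agent.Lib.RankOne.InvolLevi

open Cfsg.Lie Cfsg.Agent.Lib.Chev

theorem cert8Lev_nodes_2304 : allLt 64 (fun i => chkNodeG chevE8 tabE8 m8Lev6 6 tbE8 cert8Lev repsE8Lev (2304 + i)) = true := by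
  decide +kernel

theorem cert8Lev_nodes_2368 : allLt 64 (fun i => chkNodeG chevE8 tabE8 m8Lev6 6 tbE8 cert8Lev repsE8Lev (2368 + i)) = true := by
  decide +kernel

theorem cert8Lev_nodes_2432 : allLt 64 (fun i => chkNodeG chevE8 tabE8 m8Lev6 6 tbE8 cert8Lev repsE8Lev (2432 + i)) = true := by
  decide +kernel

theorem cert8Lev_nodes_2496 : allLt 64 (fun i => chkNodeG chevE8 tabE8 m8Lev6 6 tbE8 cert8Lev repsE8Lev (2496 + i)) = true := by
  decide +kernel

theorem cert8Lev_nodes_2560 : allLt 64 (fun i => chkNodeG chevE8 tabE8 m8Lev6 6 tbE8 cert8Lev repsE8Lev (2560 + i)) = true := by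
  decide +kernel

theorem cert8Lev_nodes_2624 : allLt 64 (fun i => chkNodeG chevE8 tabE8 m8Lev6 6 tbE8 cert8Lev repsE8Lev (2624 + i)) = true := by
  decide +kernel

theorem cert8Lev_nodes_2688 : allLt 64 (fun i => chkNodeG chevE8 tabE8 m8Lev6 6 tbE8 cert8Lev repsE8Lev (2688 + i)) = true := by
  decide +kernel

theorem cert8Lev_nodes_2752 : allLt 64 (fun i => chkNodeG chevE8 tabE8 m8Lev6 6 tbE8 cert8Lev repsE8Lev (2752 + i)) = true := by
  decide +kernel

theorem cert8Lev_nodes_2816 : allLt 64 (fun i => chkNodeG chevE8 tabE8 m8Lev6 6 tbE8 cert8Lev repsE8Lev (2816 + i)) = true := by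
  decide +kernel

theorem cert8Lev_nodes_2880 : allLt 64 (fun i => chkNodeG chevE8 tabE8 m8Lev6 6 tbE8 cert8Lev repsE8Lev (2880 + i)) = true := by
  decide +kernel

theorem cert8Lev_nodes_2944 : allLt 64 (fun i => chkNodeG chevE8 tabE8 m8Lev6 6 tbE8 cert8Lev repsE8Lev (2944 + i)) = true := by
  decide +kernel

theorem cert8Lev_nodes_3008 : allLt 64 (fun i => chkNodeG chevE8 tabE8 m8Lev6 6 tbE8 cert8Lev repsE8Lev (3008 + i)) = true := by
  decide +kernel

end Cfsg.Agent.Lib.RankOne.InvolLevi
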