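import Cfsg.Agent.Lib.RankOne.InvolLevi.CertE8Lev
import Cfsg.Agent.Lib.RankOne.InvolLevi.TabCertE8
import Cfsg.Agent.Lib.RankOne.InvolLevi.MoveG
import Cfsg.Agent.Lib.Chev.DataE8

/-!
The certificate cert8Lev passes the checks on the nodes from 3072 to 3840.
-/

set_option autoImplicit false
set_option maxRecDepth 100000

namespace Cfsg.Agent.Lib.RankOne.InvolLevi

open Cfsg.Lie Cfsg.Agent.Lib.Chev

theorem cert8Lev_nodes_3072 : allLt 64 (fun i => chkNodeG chevE8 tabE8 m8Lev6 6 tbE8 cert8Lev repsE8Lev (3072 + i)) = true := by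
  decide +kernel

theorem cert8Lev_nodes_3136 : allLt 64 (fun i => chkNodeG chevE8 tabE8 m8Lev6 6 tbE8 cert8Lev repsE8Lev (3136 + i)) = true := by
  decide +kernel

theorem cert8Lev_nodes_3200 : allLt 64 (fun i => chkNodeG chevE8 tabE8 m8Lev6 6 tbE8 cert8Lev repsE8Lev (3200 + i)) = true := by
  decide +kernel

theorem cert8Lev_nodes_3264 : allLt 64 (fun i => chkNodeG chevE8 tabE8 m8Lev6 6 tbE8 cert8Lev repsE8Lev (3264 + i)) = true := by
  decide +kernel

theorem cert8Lev_nodes_3328 : allLt 64 (fun i => chkNodeG chevE8 tabE8 m8Lev6 6 tbE8 cert8Lev repsE8Lev (3328 + i)) = true := by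
  decide +kernel

theorem cert8Lev_nodes_3392 : allLt 64 (fun i => chkNodeG chevE8 tabE8 m8Lev6 6 tbE8 cert8Lev repsE8Lev (3392 + i)) = true := by
  decide +kernel

theorem cert8Lev_nodes_3456 : allLt 64 (fun i => chkNodeG chevE8 tabE8 m8Lev6 6 tbE8 cert8Lev repsE8Lev (3456 + i)) = true := by
  decide +kernel

theorem cert8Lev_nodes_3520 : allLt 64 (fun i => chkNodeG chevE8 tabE8 m8Lev6 6 tbE8 cert8Lev repsE8Lev (3520 + i)) = true := by
  decide +kernel

theorem cert8Lev_nodes_3584 : allLt 64 (fun i => chkNodeG chevE8 tabE8 m8Lev6 6 tbE8 cert8Lev repsE8Lev (3584 + i)) = true := by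
  decide +kernel

theorem cert8Lev_nodes_3648 : allLt 64 (fun i => chkNodeG chevE8 tabE8 m8Lev6 6 tbE8 cert8Lev repsE8Lev (3648 + i)) = true := by
  decide +kernel

theorem cert8Lev_nodes_3712 : allLt 64 (fun i => chkNodeG chevE8 tabE8 m8Lev6 6 tbE8 cert8Lev repsE8Lev (3712 + i)) = true := by
  decide +kernel

theorem cert8Lev_nodes_3776 : allLt 64 (fun i => chkNodeG chevE8 tabE8 m8Lev6 6 tbE8 cert8Lev repsE8Lev (3776 + i)) = true := by
  decide +kernel

end Cfsg.Agent.Lib.RankOne.InvolLevi
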