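import Cfsg.Agent.Lib.RankOne.InvolLevi.CertE8Mid
import Cfsg.Agent.Lib.RankOne.InvolLevi.TabCertE8
import Cfsg.Agent.Lib.RankOne.InvolLevi.MoveG
import Cfsg.Agent.Lib.Chev.DataE8

/-!
The certificate cert8Mid passes the checks on the nodes from 1024 to 1536.
-/

set_option autoImplicit false
set_option maxRecDepth 100000

namespace Cfsg.Agent.Lib.RankOne.InvolLevi

open Cfsg.Lie Cfsg.Agent.Lib.Chev

theorem cert8Mid_nodes_1024 : allLt 64 (fun i => chkNodeG chevE8 tabE8 m8Lev7 7 tbE8 cert8Mid repsE8Mid (1024 + i)) = true := by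
  decide +kernel

theorem cert8Mid_nodes_1088 : allLt 64 (fun i => chkNodeG chevE8 tabE8 m8Lev7 7 tbE8 cert8Mid repsE8Mid (1088 + i)) = true := by
  decide +kernel

theorem cert8Mid_nodes_1152 : allLt 64 (fun i => chkNodeG chevE8 tabE8 m8Lev7 7 tbE8 cert8Mid repsE8Mid (1152 + i)) = true := by
  decide +kernel

theorem cert8Mid_nodes_1216 : allLt 64 (fun i => chkNodeG chevE8 tabE8 m8Lev7 7 tbE8 cert8Mid repsE8Mid (1216 + i)) = true := by
  decide +kernel

theorem cert8Mid_nodes_1280 : allLt 64 (fun i => chkNodeG chevE8 tabE8 m8Lev7 7 tbE8 cert8Mid repsE8Mid (1280 + i)) = true := by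
  decide +kernel

theorem cert8Mid_nodes_1344 : allLt 64 (fun i => chkNodeG chevE8 tabE8 m8Lev7 7 tbE8 cert8Mid repsE8Mid (1344 + i)) = true := by
  decide +kernel

theorem cert8Mid_nodes_1408 : allLt 64 (fun i => chkNodeG chevE8 tabE8 m8Lev7 7 tbE8 cert8Mid repsE8Mid (1408 + i)) = true := by
  decide +kernel

theorem cert8Mid_nodes_1472 : allLt 64 (fun i => chkNodeG chevE8 tabE8 m8Lev7 7 tbE8 cert8Mid repsE8Mid (1472 + i)) = true := by
  decide +kernel

end Cfsg.Agent.Lib.RankOne.InvolLevi
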