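import Cfsg.Agent.Lib.RankOne.InvolLevi.CertE8Mid
import Cfsg.Agent.Lib.RankOne.InvolLevi.TabCertE8
import Cfsg.Agent.Lib.RankOne.InvolLevi.MoveG
import Cfsg.Agent.Lib.Chev.DataE8

/-!
The certificate cert8Mid passes the checks on the nodes from 1536 to 2048.
-/

set_option autoImplicit false
set_option maxRecDepth 100000

namespace Cfsg.Agent.Lib.RankOne.InvolLevi

open Cfsg.Lie Cfsg.Agent.Lib.Chev

theorem cert8Mid_nodes_1536 : allLt 64 (fun i => chkNodeG chevE8 tabE8 m8Lev7 7 tbE8 cert8Mid repsE8Mid (1536 + i)) = true := by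
  decide +kernel

theorem cert8Mid_nodes_1600 : allLt 64 (fun i => chkNodeG chevE8 tabE8 m8Lev7 7 tbE8 cert8Mid repsE8Mid (1600 + i)) = true := by
  decide +kernel

theorem cert8Mid_nodes_1664 : allLt 64 (fun i => chkNodeG chevE8 tabE8 m8Lev7 7 tbE8 cert8Mid repsE8Mid (1664 + i)) = true := by
  decide +kernel

theorem cert8Mid_nodes_1728 : allLt 64 (fun i => chkNodeG chevE8 tabE8 m8Lev7 7 tbE8 cert8Mid repsE8Mid (1728 + i)) = true := by
  decide +kernel

theorem cert8Mid_nodes_1792 : allLt 64 (fun i => chkNodeG chevE8 tabE8 m8Lev7 7 tbE8 cert8Mid repsE8Mid (1792 + i)) = true := by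
  decide +kernel

theorem cert8Mid_nodes_1856 : allLt 64 (fun i => chkNodeG chevE8 tabE8 m8Lev7 7 tbE8 cert8Mid repsE8Mid (1856 + i)) = true := by
  decide +kernel

theorem cert8Mid_nodes_1920 : allLt 64 (fun i => chkNodeG chevE8 tabE8 m8Lev7 7 tbE8 cert8Mid repsE8Mid (1920 + i)) = true := by
  decide +kernel

theorem cert8Mid_nodes_1984 : allLt 64 (fun i => chkNodeG chevE8 tabE8 m8Lev7 7 tbE8 cert8Mid repsE8Mid (1984 + i)) = true := by
  decide +kernel

end Cfsg.Agent.Lib.RankOne.InvolLevi
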