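import Cfsg.Agent.Lib.RankOne.InvolLevi.CertE8Top
import Cfsg.Agent.Lib.RankOne.InvolLevi.TabCertE8
import Cfsg.Agent.Lib.RankOne.InvolLevi.MoveG
import Cfsg.Agent.Lib.Chev.DataE8

/-!
The certificate cert8Top passes the checks on the nodes from 0 to 512.
-/

set_option autoImplicit false
set_option maxRecDepth 100000

namespace Cfsg.Agent.Lib.RankOne.InvolLevi

open Cfsg.Lie Cfsg.Agent.Lib.Chev

theorem cert8Top_nodes_0 : allLt 64 (fun i => chkNodeG chevE8 tabE8 m8All 8 tbE8 cert8Top repsE8Top (0 + i)) = true := by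
  decide +kernel

theorem cert8Top_nodes_64 : allLt 64 (fun i => chkNodeG chevE8 tabE8 m8All 8 tbE8 cert8Top repsE8Top (64 + i)) = true := by
  decide +kernel

theorem cert8Top_nodes_128 : allLt 64 (fun i => chkNodeG chevE8 tabE8 m8All 8 tbE8 cert8Top repsE8Top (128 + i)) = true := by
  decide +kernel

theorem cert8Top_nodes_192 : allLt 64 (fun i => chkNodeG chevE8 tabE8 m8All 8 tbE8 cert8Top repsE8Top (192 + i)) = true := by
  decide +kernel

theorem cert8Top_nodes_256 : allLt 64 (fun i => chkNodeG chevE8 tabE8 m8All 8 tbE8 cert8Top repsE8Top (256 + i)) = true := by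
  decide +kernel

theorem cert8Top_nodes_320 : allLt 64 (fun i => chkNodeG chevE8 tabE8 m8All 8 tbE8 cert8Top repsE8Top (320 + i)) = true := by
  decide +kernel

theorem cert8Top_nodes_384 : allLt 64 (fun i => chkNodeG chevE8 tabE8 m8All 8 tbE8 cert8Top repsE8Top (384 + i)) = true := by
  decide +kernel

theorem cert8Top_nodes_448 : allLt 64 (fun i => chkNodeG chevE8 tabE8 m8All 8 tbE8 cert8Top repsE8Top (448 + i)) = true := by
  decide +kernel

end Cfsg.Agent.Lib.RankOne.InvolLevi
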