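import Cfsg.Agent.Lib.RankOne.InvolLevi.CertE8Top
import Cfsg.Agent.Lib.RankOne.InvolLevi.TabCertE8
import Cfsg.Agent.Lib.RankOne.InvolLevi.MoveG
import Cfsg.Agent.Lib.Chev.DataE8

/-!
The certificate cert8Top passes the checks on the nodes from 512 to 1024.
-/

set_option autoImplicit false
set_option maxRecDepth 100000

namespace Cfsg.Agent.Lib.RankOne.InvolLevi

open Cfsg.Lie Cfsg.Agent.Lib.Chev

theorem cert8Top_nodes_512 : allLt 64 (fun i => chkNodeG chevE8 tabE8 m8All 8 tbE8 cert8Top repsE8Top (512 + i)) = true := by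
  decide +kernel

theorem cert8Top_nodes_576 : allLt 64 (fun i => chkNodeG chevE8 tabE8 m8All 8 tbE8 cert8Top repsE8Top (576 + i)) = true := by
  decide +kernel

theorem cert8Top_nodes_640 : allLt 64 (fun i => chkNodeG chevE8 tabE8 m8All 8 tbE8 cert8Top repsE8Top (640 + i)) = true := by
  decide +kernel

theorem cert8Top_nodes_704 : allLt 64 (fun i => chkNodeG chevE8 tabE8 m8All 8 tbE8 cert8Top repsE8Top (704 + i)) = true := by
  decide +kernel

theorem cert8Top_nodes_768 : allLt 64 (fun i => chkNodeG chevE8 tabE8 m8All 8 tbE8 cert8Top repsE8Top (768 + i)) = true := by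
  decide +kernel

theorem cert8Top_nodes_832 : allLt 64 (fun i => chkNodeG chevE8 tabE8 m8All 8 tbE8 cert8Top repsE8Top (832 + i)) = true := by
  decide +kernel

theorem cert8Top_nodes_896 : allLt 64 (fun i => chkNodeG chevE8 tabE8 m8All 8 tbE8 cert8Top repsE8Top (896 + i)) = true := by
  decide +kernel

theorem cert8Top_nodes_960 : allLt 64 (fun i => chkNodeG chevE8 tabE8 m8All 8 tbE8 cert8Top repsE8Top (960 + i)) = true := by
  decide +kernel

end Cfsg.Agent.Lib.RankOne.InvolLevi
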