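import Cfsg.Agent.Lib.RankOne.InvolLevi.CertE8Top
import Cfsg.Agent.Lib.RankOne.InvolLevi.TabCertE8
import Cfsg.Agent.Lib.RankOne.InvolLevi.MoveG
import Cfsg.Agent.Lib.Chev.DataE8

/-!
The certificate cert8Top passes the checks on the nodes from 5120 to 5632.
-/

set_option autoImplicit false
set_option maxRecDepth 100000

namespace Cfsg.Agent.Lib.RankOne.InvolLevi

open Cfsg.Lie Cfsg.Agent.Lib.Chev

theorem cert8Top_nodes_5120 : allLt 64 (fun i => chkNodeG chevE8 tabE8 m8All 8 tbE8 cert8Top repsE8Top (5120 + i)) = true := by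
  decide +kernel

theorem cert8Top_nodes_5184 : allLt 64 (fun i => chkNodeG chevE8 tabE8 m8All 8 tbE8 cert8Top repsE8Top (5184 + i)) = true := by
  decide +kernel

theorem cert8Top_nodes_5248 : allLt 64 (fun i => chkNodeG chevE8 tabE8 m8All 8 tbE8 cert8Top repsE8Top (5248 + i)) = true := by
  decide +kernel

theorem cert8Top_nodes_5312 : allLt 64 (fun i => chkNodeG chevE8 tabE8 m8All 8 tbE8 cert8Top repsE8Top (5312 + i)) = true := by
  decide +kernel

theorem cert8Top_nodes_5376 : allLt 64 (fun i => chkNodeG chevE8 tabE8 m8All 8 tbE8 cert8Top repsE8Top (5376 + i)) = true := by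
  decide +kernel

theorem cert8Top_nodes_5440 : allLt 64 (fun i => chkNodeG chevE8 tabE8 m8All 8 tbE8 cert8Top repsE8Top (5440 + i)) = true := by
  decide +kernel

theorem cert8Top_nodes_5504 : allLt 64 (fun i => chkNodeG chevE8 tabE8 m8All 8 tbE8 cert8Top repsE8Top (5504 + i)) = true := by
  decide +kernel

theorem cert8Top_nodes_5568 : allLt 64 (fun i => chkNodeG chevE8 tabE8 m8All 8 tbE8 cert8Top repsE8Top (5568 + i)) = true := by
  decide +kernel

end Cfsg.Agent.Lib.RankOne.InvolLevi
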