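import Cfsg.Agent.Lib.RankOne.InvolLevi.CertE8Top
import Cfsg.Agent.Lib.RankOne.InvolLevi.TabCertE8
import Cfsg.Agent.Lib.RankOne.InvolLevi.MoveG
import Cfsg.Agent.Lib.Chev.DataE8

/-!
The certificate cert8Top passes the checks on the nodes from 5632 to 6144.
-/

set_option autoImplicit false
set_option maxRecDepth 100000

namespace Cfsg.Agent.Lib.RankOne.InvolLevi

open Cfsg.Lie Cfsg.Agent.Lib.Chev

theorem cert8Top_nodes_5632 : allLt 64 (fun i => chkNodeG chevE8 tabE8 m8All 8 tbE8 cert8Top repsE8Top (5632 + i)) = true := by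
  decide +kernel

theorem cert8Top_nodes_5696 : allLt 64 (fun i => chkNodeG chevE8 tabE8 m8All 8 tbE8 cert8Top repsE8Top (5696 + i)) = true := by
  decide +kernel

theorem cert8Top_nodes_5760 : allLt 64 (fun i => chkNodeG chevE8 tabE8 m8All 8 tbE8 cert8Top repsE8Top (5760 + i)) = true := by
  decide +kernel

theorem cert8Top_nodes_5824 : allLt 64 (fun i => chkNodeG chevE8 tabE8 m8All 8 tbE8 cert8Top repsE8Top (5824 + i)) = true := by
  decide +kernel

theorem cert8Top_nodes_5888 : allLt 64 (fun i => chkNodeG chevE8 tabE8 m8All 8 tbE8 cert8Top repsE8Top (5888 + i)) = true := by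
  decide +kernel

theorem cert8Top_nodes_5952 : allLt 64 (fun i => chkNodeG chevE8 tabE8 m8All 8 tbE8 cert8Top repsE8Top (5952 + i)) = true := by
  decide +kernel

theorem cert8Top_nodes_6016 : allLt 64 (fun i => chkNodeG chevE8 tabE8 m8All 8 tbE8 cert8Top repsE8Top (6016 + i)) = true := by
  decide +kernel

theorem cert8Top_nodes_6080 : allLt 64 (fun i => chkNodeG chevE8 tabE8 m8All 8 tbE8 cert8Top repsE8Top (6080 + i)) = true := by
  decide +kernel

end Cfsg.Agent.Lib.RankOne.InvolLevi
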