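import Cfsg.Agent.Lib.RankOne.InvolLevi.CertE8Top
import Cfsg.Agent.Lib.RankOne.InvolLevi.TabCertE8
import Cfsg.Agent.Lib.RankOne.InvolLevi.MoveG
import Cfsg.Agent.Lib.Chev.DataE8

/-!
The certificate cert8Top passes the checks on the nodes from 6144 to 6656.
-/

set_option autoImplicit false
set_option maxRecDepth 100000

namespace Cfsg.Agent.Lib.RankOne.InvolLevi

open Cfsg.Lie Cfsg.Agent.Lib.Chev

theorem cert8Top_nodes_6144 : allLt 64 (fun i => chkNodeG chevE8 tabE8 m8All 8 tbE8 cert8Top repsE8Top (6144 + i)) = true := by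
  decide +kernel

theorem cert8Top_nodes_6208 : allLt 64 (fun i => chkNodeG chevE8 tabE8 m8All 8 tbE8 cert8Top repsE8Top (6208 + i)) = true := by
  decide +kernel

theorem cert8Top_nodes_6272 : allLt 64 (fun i => chkNodeG chevE8 tabE8 m8All 8 tbE8 cert8Top repsE8Top (6272 + i)) = true := by
  decide +kernel

theorem cert8Top_nodes_6336 : allLt 64 (fun i => chkNodeG chevE8 tabE8 m8All 8 tbE8 cert8Top repsE8Top (6336 + i)) = true := by
  decide +kernel

theorem cert8Top_nodes_6400 : allLt 64 (fun i => chkNodeG chevE8 tabE8 m8All 8 tbE8 cert8Top repsE8Top (6400 + i)) = true := by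
  decide +kernel

theorem cert8Top_nodes_6464 : allLt 64 (fun i => chkNodeG chevE8 tabE8 m8All 8 tbE8 cert8Top repsE8Top (6464 + i)) = true := by
  decide +kernel

theorem cert8Top_nodes_6528 : allLt 64 (fun i => chkNodeG chevE8 tabE8 m8All 8 tbE8 cert8Top repsE8Top (6528 + i)) = true := by
  decide +kernel

theorem cert8Top_nodes_6592 : allLt 64 (fun i => chkNodeG chevE8 tabE8 m8All 8 tbE8 cert8Top repsE8Top (6592 + i)) = true := by
  decide +kernel

end Cfsg.Agent.Lib.RankOne.InvolLevi
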