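import Cfsg.Agent.Lib.RankOne.InvolLevi.CertE7
import Cfsg.Agent.Lib.Chev.DataE7

/-!
The certificate certLev passes the checks on the nodes from 0 to 1280.
-/

set_option autoImplicit false
set_option maxRecDepth 100000

namespace Cfsg.Agent.Lib.RankOne.InvolLevi

open Cfsg.Lie Cfsg.Agent.Lib.Chev

theorem certLev_nodes_0 : allLt 128 (fun i => chkNode chevE7 tabE7 mLev 6 tbE7 certLev repsLev (0 + i)) = true := by
  decide +kernel

theorem certLev_nodes_128 : allLt 128 (fun i => chkNode chevE7 tabE7 mLev 6 tbE7 certLev repsLev (128 + i)) = true := by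
  decide +kernel

theorem certLev_nodes_256 : allLt 128 (fun i => chkNode chevE7 tabE7 mLev 6 tbE7 certLev repsLev (256 + i)) = true := by
  decide +kernel

theorem certLev_nodes_384 : allLt 128 (fun i => chkNode chevE7 tabE7 mLev 6 tbE7 certLev repsLev (384 + i)) = true := by
  decide +kernel

theorem certLev_nodes_512 : allLt 128 (fun i => chkNode chevE7 tabE7 mLev 6 tbE7 certLev repsLev (512 + i)) = true := by
  decide +kernel

theorem certLev_nodes_640 : allLt 128 (fun i => chkNode chevE7 tabE7 mLev 6 tbE7 certLev repsLev (640 + i)) = true := by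
  decide +kernel

theorem certLev_nodes_768 : allLt 128 (fun i => chkNode chevE7 tabE7 mLev 6 tbE7 certLev repsLev (768 + i)) = true := by
  decide +kernel

theorem certLev_nodes_896 : allLt 128 (fun i => chkNode chevE7 tabE7 mLev 6 tbE7 certLev repsLev (896 + i)) = true := by
  decide +kernel

theorem certLev_nodes_1024 : allLt 128 (fun i => chkNode chevE7 tabE7 mLev 6 tbE7 certLev repsLev (1024 + i)) = true := by
  decide +kernel

theorem certLev_nodes_1152 : allLt 128 (fun i => chkNode chevE7 tabE7 mLev 6 tbE7 certLev repsLev (1152 + i)) = true := by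
  decide +kernel

end Cfsg.Agent.Lib.RankOne.InvolLevi
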