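import Cfsg.Agent.Lib.RankOne.InvolLevi.CertE7
import Cfsg.Agent.Lib.Chev.DataE7

/-!
The certificate certLev passes the checks on the nodes from 2560 to 3840.
-/

set_option autoImplicit false
set_option maxRecDepth 100000

namespace Cfsg.Agent.Lib.RankOne.InvolLevi

open Cfsg.Lie Cfsg.Agent.Lib.Chev

theorem certLev_nodes_2560 : allLt 128 (fun i => chkNode chevE7 tabE7 mLev 6 tbE7 certLev repsLev (2560 + i)) = true := by
  decide +kernel

theorem certLev_nodes_2688 : allLt 128 (fun i => chkNode chevE7 tabE7 mLev 6 tbE7 certLev repsLev (2688 + i)) = true := by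
  decide +kernel

theorem certLev_nodes_2816 : allLt 128 (fun i => chkNode chevE7 tabE7 mLev 6 tbE7 certLev repsLev (2816 + i)) = true := by
  decide +kernel

theorem certLev_nodes_2944 : allLt 128 (fun i => chkNode chevE7 tabE7 mLev 6 tbE7 certLev repsLev (2944 + i)) = true := by
  decide +kernel

theorem certLev_nodes_3072 : allLt 128 (fun i => chkNode chevE7 tabE7 mLev 6 tbE7 certLev repsLev (3072 + i)) = true := by
  decide +kernel

theorem certLev_nodes_3200 : allLt 128 (fun i => chkNode chevE7 tabE7 mLev 6 tbE7 certLev repsLev (3200 + i)) = true := by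
  decide +kernel

theorem certLev_nodes_3328 : allLt 128 (fun i => chkNode chevE7 tabE7 mLev 6 tbE7 certLev repsLev (3328 + i)) = true := by
  decide +kernel

theorem certLev_nodes_3456 : allLt 128 (fun i => chkNode chevE7 tabE7 mLev 6 tbE7 certLev repsLev (3456 + i)) = true := by
  decide +kernel

theorem certLev_nodes_3584 : allLt 128 (fun i => chkNode chevE7 tabE7 mLev 6 tbE7 certLev repsLev (3584 + i)) = true := by
  decide +kernel

theorem certLev_nodes_3712 : allLt 128 (fun i => chkNode chevE7 tabE7 mLev 6 tbE7 certLev repsLev (3712 + i)) = true := by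
  decide +kernel

end Cfsg.Agent.Lib.RankOne.InvolLevi
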