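import Cfsg.Agent.Lib.RankOne.InvolLevi.CertE7
import Cfsg.Agent.Lib.Chev.DataE7

/-!
The certificate certLev passes the checks on the nodes from 3840 to 5120.
-/

set_option autoImplicit false
set_option maxRecDepth 100000

namespace Cfsg.Agent.Lib.RankOne.InvolLevi

open Cfsg.Lie Cfsg.Agent.Lib.Chev

theorem certLev_nodes_3840 : allLt 128 (fun i => chkNode chevE7 tabE7 mLev 6 tbE7 certLev repsLev (3840 + i)) = true := by
  decide +kernel

theorem certLev_nodes_3968 : allLt 128 (fun i => chkNode chevE7 tabE7 mLev 6 tbE7 certLev repsLev (3968 + i)) = true := by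
  decide +kernel

theorem certLev_nodes_4096 : allLt 128 (fun i => chkNode chevE7 tabE7 mLev 6 tbE7 certLev repsLev (4096 + i)) = true := by
  decide +kernel

theorem certLev_nodes_4224 : allLt 128 (fun i => chkNode chevE7 tabE7 mLev 6 tbE7 certLev repsLev (4224 + i)) = true := by
  decide +kernel

theorem certLev_nodes_4352 : allLt 128 (fun i => chkNode chevE7 tabE7 mLev 6 tbE7 certLev repsLev (4352 + i)) = true := by
  decide +kernel

theorem certLev_nodes_4480 : allLt 128 (fun i => chkNode chevE7 tabE7 mLev 6 tbE7 certLev repsLev (4480 + i)) = true := by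
  decide +kernel

theorem certLev_nodes_4608 : allLt 128 (fun i => chkNode chevE7 tabE7 mLev 6 tbE7 certLev repsLev (4608 + i)) = true := by
  decide +kernel

theorem certLev_nodes_4736 : allLt 128 (fun i => chkNode chevE7 tabE7 mLev 6 tbE7 certLev repsLev (4736 + i)) = true := by
  decide +kernel

theorem certLev_nodes_4864 : allLt 128 (fun i => chkNode chevE7 tabE7 mLev 6 tbE7 certLev repsLev (4864 + i)) = true := by
  decide +kernel

theorem certLev_nodes_4992 : allLt 128 (fun i => chkNode chevE7 tabE7 mLev 6 tbE7 certLev repsLev (4992 + i)) = true := by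
  decide +kernel

end Cfsg.Agent.Lib.RankOne.InvolLevi
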