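import Cfsg.Agent.Lib.RankOne.InvolLevi.CertE7
import Cfsg.Agent.Lib.Chev.DataE7

/-!
The certificate certLev passes the checks on the nodes from 5120 to 6423.
-/

set_option autoImplicit false
set_option maxRecDepth 100000

namespace Cfsg.Agent.Lib.RankOne.InvolLevi

open Cfsg.Lie Cfsg.Agent.Lib.Chev

theorem certLev_nodes_5120 : allLt 128 (fun i => chkNode chevE7 tabE7 mLev 6 tbE7 certLev repsLev (5120 + i)) = true := by
  decide +kernel

theorem certLev_nodes_5248 : allLt 128 (fun i => chkNode chevE7 tabE7 mLev 6 tbE7 certLev repsLev (5248 + i)) = true := by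
  decide +kernel

theorem certLev_nodes_5376 : allLt 128 (fun i => chkNode chevE7 tabE7 mLev 6 tbE7 certLev repsLev (5376 + i)) = true := by
  decide +kernel

theorem certLev_nodes_5504 : allLt 128 (fun i => chkNode chevE7 tabE7 mLev 6 tbE7 certLev repsLev (5504 + i)) = true := by
  decide +kernel

theorem certLev_nodes_5632 : allLt 128 (fun i => chkNode chevE7 tabE7 mLev 6 tbE7 certLev repsLev (5632 + i)) = true := by
  decide +kernel

theorem certLev_nodes_5760 : allLt 128 (fun i => chkNode chevE7 tabE7 mLev 6 tbE7 certLev repsLev (5760 + i)) = true := by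
  decide +kernel

theorem certLev_nodes_5888 : allLt 128 (fun i => chkNode chevE7 tabE7 mLev 6 tbE7 certLev repsLev (5888 + i)) = true := by
  decide +kernel

theorem certLev_nodes_6016 : allLt 128 (fun i => chkNode chevE7 tabE7 mLev 6 tbE7 certLev repsLev (6016 + i)) = true := by
  decide +kernel

theorem certLev_nodes_6144 : allLt 128 (fun i => chkNode chevE7 tabE7 mLev 6 tbE7 certLev repsLev (6144 + i)) = true := by
  decide +kernel

theorem certLev_nodes_6272 : allLt 128 (fun i => chkNode chevE7 tabE7 mLev 6 tbE7 certLev repsLev (6272 + i)) = true := by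
  decide +kernel

theorem certLev_nodes_6400 : allLt 23 (fun i => chkNode chevE7 tabE7 mLev 6 tbE7 certLev repsLev (6400 + i)) = true := by
  decide +kernel

end Cfsg.Agent.Lib.RankOne.InvolLevi
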