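import Cfsg.Agent.Lib.RankOne.InvolLevi.TabCertE8
import Cfsg.Agent.Lib.RankOne.InvolLevi.MoveG
import Cfsg.Agent.Lib.Chev.DataE8

/-!
The table of type E8 and the splittings of its sets of positive roots pass their checks.
-/

set_option autoImplicit false
set_option maxRecDepth 100000

namespace Cfsg.Agent.Lib.RankOne.InvolLevi

open Cfsg.Lie Cfsg.Agent.Lib.Chev

theorem tabOkE8 : chkTab chevE8 tabE8 tbE8 = true := by decide +kernel

theorem splitTopE8 : chkSplitting chevE8 tabE8 m8All m8Lev7 m8Rad8 = true ∧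
    chkStable chevE8 tabE8 7 m8Rad8 = true ∧ chkTerms chevE8 tabE8 m8All m8Rad8 m8Rad8 = true ∧
    chkTerms chevE8 tabE8 m8Rad8 m8Rad8 m8Rad8 = true := by decide +kernel

theorem splitMidE8 : chkSplitting chevE8 tabE8 m8Lev7 m8Lev6 m8Rad7 = true ∧
    chkStable chevE8 tabE8 6 m8Rad7 = true ∧ chkTerms chevE8 tabE8 m8Lev7 m8Rad7 m8Rad7 = true ∧
    chkTerms chevE8 tabE8 m8Rad7 m8Rad7 m8Rad7 = true := by decide +kernel

end Cfsg.Agent.Lib.RankOne.InvolLevi
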