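import Cfsg.Agent.Lib.RankOne.InvolLevi.CertE7
import Cfsg.Agent.Lib.Chev.DataE7

/-!
The certificate certTop passes the checks on the nodes from 1024 to 2127.
-/

set_option autoImplicit false
set_option maxRecDepth 100000

namespace Cfsg.Agent.Lib.RankOne.InvolLevi

open Cfsg.Lie Cfsg.Agent.Lib.Chev

theorem certTop_nodes_1024 : allLt 128 (fun i => chkNode chevE7 tabE7 mAll 7 tbE7 certTop repsTop (1024 + i)) = true := by
  decide +kernel

theorem certTop_nodes_1152 : allLt 128 (fun i => chkNode chevE7 tabE7 mAll 7 tbE7 certTop repsTop (1152 + i)) = true := by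
  decide +kernel

theorem certTop_nodes_1280 : allLt 128 (fun i => chkNode chevE7 tabE7 mAll 7 tbE7 certTop repsTop (1280 + i)) = true := by
  decide +kernel

theorem certTop_nodes_1408 : allLt 128 (fun i => chkNode chevE7 tabE7 mAll 7 tbE7 certTop repsTop (1408 + i)) = true := by
  decide +kernel

theorem certTop_nodes_1536 : allLt 128 (fun i => chkNode chevE7 tabE7 mAll 7 tbE7 certTop repsTop (1536 + i)) = true := by
  decide +kernel

theorem certTop_nodes_1664 : allLt 128 (fun i => chkNode chevE7 tabE7 mAll 7 tbE7 certTop repsTop (1664 + i)) = true := by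
  decide +kernel

theorem certTop_nodes_1792 : allLt 128 (fun i => chkNode chevE7 tabE7 mAll 7 tbE7 certTop repsTop (1792 + i)) = true := by
  decide +kernel

theorem certTop_nodes_1920 : allLt 128 (fun i => chkNode chevE7 tabE7 mAll 7 tbE7 certTop repsTop (1920 + i)) = true := by
  decide +kernel

theorem certTop_nodes_2048 : allLt 79 (fun i => chkNode chevE7 tabE7 mAll 7 tbE7 certTop repsTop (2048 + i)) = true := by
  decide +kernel

end Cfsg.Agent.Lib.RankOne.InvolLevi
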