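import Cfsg.Agent.Lib.RankOne.InvolLevi.RankE7
import Cfsg.Agent.Lib.RankOne.InvolLevi.ChkTop0
import Cfsg.Agent.Lib.RankOne.InvolLevi.ChkTop1
import Cfsg.Agent.Lib.RankOne.InvolLevi.ChkLev0
import Cfsg.Agent.Lib.RankOne.InvolLevi.ChkLev1
import Cfsg.Agent.Lib.RankOne.InvolLevi.ChkLev2
import Cfsg.Agent.Lib.RankOne.InvolLevi.ChkLev3
import Cfsg.Agent.Lib.RankOne.InvolLevi.ChkLev4

/-!
The involution classes of the Chevalley group of type E7 in characteristic two.
-/

set_option autoImplicit false
set_option maxRecDepth 100000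

namespace Cfsg.Agent.Lib.RankOne.InvolLevi.E7

open Cfsg.Lie Cfsg.Agent.Lib.Chev Cfsg.Agent.Lib.Chev.Tw Cfsg.Agent.Lib.RankOne.InvolLevi

theorem tabOk : chkTab chevE7 tabE7 tbE7 = true := by decide +kernel

theorem npos_eq : npos chevE7 = 63 := by decide +kernel

theorem split_ok : chkSplitting chevE7 tabE7 mAll mLev mRad = true ∧
    chkStable chevE7 tabE7 6 mRad = true ∧ chkTerms chevE7 tabE7 mAll mRad mRad = true ∧
    chkTerms chevE7 tabE7 mRad mRad mRad = true := by decide +kernel

theorem all_bits : allLt (npos chevE7) (fun i => mAll.testBit i) = true := by decide +kernel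

/-- A node accepts the states made of a representative and arbitrary values on the radical. -/
def chkSeed (R v : ℕ) : Bool := allLt (npos chevE7) fun i =>
  ((nS v).testBit i || (!R.testBit i && !mRad.testBit i)) &&
    (!(nN v).testBit i || (R.testBit i && !mRad.testBit i)) && (!R.testBit i || mLev.testBit i)

theorem seeds_ok : chkSeed 0 (certTop.get 1054) = true ∧
    chkSeed 72057594037927936 (certTop.get 1605) = true ∧
    chkSeed 149533581377536 (certTop.get 1891) = true ∧
    chkSeed 72567901650944 (certTop.get 2126) = true := by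
  decide +kernel

theorem nodes_certTop : ∀ id < 2127, chkNode chevE7 tabE7 mAll 7 tbE7 certTop repsTop id = true := by
  have h : ∀ id < 0, chkNode chevE7 tabE7 mAll 7 tbE7 certTop repsTop id = true :=
    fun id h => absurd h (Nat.not_lt_zero id)
  replace h := cover h certTop_nodes_0
  replace h := cover h certTop_nodes_128
  replace h := cover h certTop_nodes_256
  replace h := cover h certTop_nodes_384
  replace h := cover h certTop_nodes_512
  replace h := cover h certTop_nodes_640
  replace h := cover h certTop_nodes_768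
  replace h := cover h certTop_nodes_896
  replace h := cover h certTop_nodes_1024
  replace h := cover h certTop_nodes_1152
  replace h := cover h certTop_nodes_1280
  replace h := cover h certTop_nodes_1408
  replace h := cover h certTop_nodes_1536
  replace h := cover h certTop_nodes_1664
  replace h := cover h certTop_nodes_1792
  replace h := cover h certTop_nodes_1920
  replace h := cover h certTop_nodes_2048
  exact h

theorem nodes_certLev : ∀ id < 6423, chkNode chevE7 tabE7 mLev 6 tbE7 certLev repsLev id = true := by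
  have h : ∀ id < 0, chkNode chevE7 tabE7 mLev 6 tbE7 certLev repsLev id = true :=
    fun id h => absurd h (Nat.not_lt_zero id)
  replace h := cover h certLev_nodes_0
  replace h := cover h certLev_nodes_128
  replace h := cover h certLev_nodes_256
  replace h := cover h certLev_nodes_384
  replace h := cover h certLev_nodes_512
  replace h := cover h certLev_nodes_640
  replace h := cover h certLev_nodes_768
  replace h := cover h certLev_nodes_896
  replace h := cover h certLev_nodes_1024
  replace h := cover h certLev_nodes_1152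
  replace h := cover h certLev_nodes_1280
  replace h := cover h certLev_nodes_1408
  replace h := cover h certLev_nodes_1536
  replace h := cover h certLev_nodes_1664
  replace h := cover h certLev_nodes_1792
  replace h := cover h certLev_nodes_1920
  replace h := cover h certLev_nodes_2048
  replace h := cover h certLev_nodes_2176
  replace h := cover h certLev_nodes_2304
  replace h := cover h certLev_nodes_2432
  replace h := cover h certLev_nodes_2560
  replace h := cover h certLev_nodes_2688
  replace h := cover h certLev_nodes_2816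
  replace h := cover h certLev_nodes_2944
  replace h := cover h certLev_nodes_3072
  replace h := cover h certLev_nodes_3200
  replace h := cover h certLev_nodes_3328
  replace h := cover h certLev_nodes_3456
  replace h := cover h certLev_nodes_3584
  replace h := cover h certLev_nodes_3712
  replace h := cover h certLev_nodes_3840
  replace h := cover h certLev_nodes_3968
  replace h := cover h certLev_nodes_4096
  replace h := cover h certLev_nodes_4224
  replace h := cover h certLev_nodes_4352
  replace h := cover h certLev_nodes_4480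
  replace h := cover h certLev_nodes_4608
  replace h := cover h certLev_nodes_4736
  replace h := cover h certLev_nodes_4864
  replace h := cover h certLev_nodes_4992
  replace h := cover h certLev_nodes_5120
  replace h := cover h certLev_nodes_5248
  replace h := cover h certLev_nodes_5376
  replace h := cover h certLev_nodes_5504
  replace h := cover h certLev_nodes_5632
  replace h := cover h certLev_nodes_5760
  replace h := cover h certLev_nodes_5888
  replace h := cover h certLev_nodes_6016
  replace h := cover h certLev_nodes_6144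
  replace h := cover h certLev_nodes_6272
  replace h := cover h certLev_nodes_6400
  exact h

theorem root_ok : allLt (npos chevE7) (fun i =>
    ((nS (certLev.get 6422)).testBit i || !mLev.testBit i) && !(nN (certLev.get 6422)).testBit i) = true := by
  decide +kernel

theorem rep0 : chkRepList chevE7 tbE7 1 [0] = true ∧
    chkScale chevE7 tabE7 [(0, 63)] = true := by decide +kernel

theorem rep1 : chkRepList chevE7 tbE7 9 [0, 3] = true ∧
    chkScale chevE7 tabE7 [(0, 63), (3, 66)] = true := by decide +kernel

theorem rep2 : chkRepList chevE7 tbE7 1033 [0, 3, 10] = true ∧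
    chkScale chevE7 tabE7 [(0, 63), (3, 66), (10, 73)] = true := by decide +kernel

theorem rep3 : chkRepList chevE7 tbE7 32777 [0, 3, 15] = true ∧
    chkScale chevE7 tabE7 [(0, 63), (3, 66), (15, 78)] = true := by decide +kernel

theorem rep4 : chkRepList chevE7 tbE7 33801 [0, 3, 10, 15] = true ∧
    chkScale chevE7 tabE7 [(0, 63), (3, 66), (10, 73), (15, 78)] = true := by decide +kernel

variable {F : Type*} [Field F]

/-- The representatives as matrices. -/
abbrev mats (F : Type*) [Field F] : List (Matrix chevE7.Idx chevE7.Idx F) :=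
  [Cfsg.Lie.chevE7.x F 63 1,
    Cfsg.Lie.chevE7.x F 63 1 * Cfsg.Lie.chevE7.x F 66 1,
    Cfsg.Lie.chevE7.x F 63 1 * Cfsg.Lie.chevE7.x F 66 1 * Cfsg.Lie.chevE7.x F 73 1,
    Cfsg.Lie.chevE7.x F 63 1 * Cfsg.Lie.chevE7.x F 66 1 * Cfsg.Lie.chevE7.x F 78 1,
    Cfsg.Lie.chevE7.x F 63 1 * Cfsg.Lie.chevE7.x F 66 1 * Cfsg.Lie.chevE7.x F 73 1 * Cfsg.Lie.chevE7.x F 78 1]

/-- A representative. -/
abbrev el (F : Type*) [Field F] (L : List ℕ) : GL chevE7.Idx F := repEl goodE7 L

theorem two [CharP F 2] : (2 : F) = 0 := by exact_mod_cast CharP.cast_eq_zero F 2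

theorem sqrtF [Fintype F] [CharP F 2] (a : F) : ∃ b : F, b ^ 2 = a := by
  obtain ⟨b, hb⟩ := FiniteField.isSquare_of_char_two (ringChar.eq F 2) a
  exact ⟨b, by rw [hb, pow_two]⟩

theorem el0_val : (el F [0]).val = Cfsg.Lie.chevE7.x F 63 1 := by
  simp [repEl, Xr, npos_eq, (goodE7).X_val, mul_assoc]

theorem el0_mem_order [CharP F 2] : el F [0] ∈ chevE7.group F ∧ orderOf (el F [0]) = 2 :=
  ⟨repEl_mem _ _, orderOf_repEl goodE7 tabOk two rep0.1 (i := 0) (by simp)⟩

theorem rank0 [CharP F 2] : ((el F [0]).val - 1).rank = 34 := by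
  have h := rank_sub_one (K := F) goodE7 two rankE7_0
  rw [el0_val]
  simpa [castWord, ChevalleyDatum.wordMat, mul_assoc] using h

theorem el1_val : (el F [0, 3]).val = Cfsg.Lie.chevE7.x F 63 1 * Cfsg.Lie.chevE7.x F 66 1 := by
  simp [repEl, Xr, npos_eq, (goodE7).X_val, mul_assoc]

theorem el1_mem_order [CharP F 2] : el F [0, 3] ∈ chevE7.group F ∧ orderOf (el F [0, 3]) = 2 :=
  ⟨repEl_mem _ _, orderOf_repEl goodE7 tabOk two rep1.1 (i := 0) (by simp)⟩

theorem rank1 [CharP F 2] : ((el F [0, 3]).val - 1).rank = 52 := by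
  have h := rank_sub_one (K := F) goodE7 two rankE7_1
  rw [el1_val]
  simpa [castWord, ChevalleyDatum.wordMat, mul_assoc] using h

theorem el2_val : (el F [0, 3, 10]).val = Cfsg.Lie.chevE7.x F 63 1 * Cfsg.Lie.chevE7.x F 66 1 * Cfsg.Lie.chevE7.x F 73 1 := by
  simp [repEl, Xr, npos_eq, (goodE7).X_val, mul_assoc]

theorem el2_mem_order [CharP F 2] : el F [0, 3, 10] ∈ chevE7.group F ∧ orderOf (el F [0, 3, 10]) = 2 :=
  ⟨repEl_mem _ _, orderOf_repEl goodE7 tabOk two rep2.1 (i := 0) (by simp)⟩

theorem rank2 [CharP F 2] : ((el F [0, 3, 10]).val - 1).rank = 62 := by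
  have h := rank_sub_one (K := F) goodE7 two rankE7_2
  rw [el2_val]
  simpa [castWord, ChevalleyDatum.wordMat, mul_assoc] using h

theorem el3_val : (el F [0, 3, 15]).val = Cfsg.Lie.chevE7.x F 63 1 * Cfsg.Lie.chevE7.x F 66 1 * Cfsg.Lie.chevE7.x F 78 1 := by
  simp [repEl, Xr, npos_eq, (goodE7).X_val, mul_assoc]

theorem el3_mem_order [CharP F 2] : el F [0, 3, 15] ∈ chevE7.group F ∧ orderOf (el F [0, 3, 15]) = 2 :=
  ⟨repEl_mem _ _, orderOf_repEl goodE7 tabOk two rep3.1 (i := 0) (by simp)⟩

theorem rank3 [CharP F 2] : ((el F [0, 3, 15]).val - 1).rank = 53 := by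
  have h := rank_sub_one (K := F) goodE7 two rankE7_3
  rw [el3_val]
  simpa [castWord, ChevalleyDatum.wordMat, mul_assoc] using h

theorem el4_val : (el F [0, 3, 10, 15]).val = Cfsg.Lie.chevE7.x F 63 1 * Cfsg.Lie.chevE7.x F 66 1 * Cfsg.Lie.chevE7.x F 73 1 * Cfsg.Lie.chevE7.x F 78 1 := by
  simp [repEl, Xr, npos_eq, (goodE7).X_val, mul_assoc]

theorem el4_mem_order [CharP F 2] : el F [0, 3, 10, 15] ∈ chevE7.group F ∧ orderOf (el F [0, 3, 10, 15]) = 2 :=
  ⟨repEl_mem _ _, orderOf_repEl goodE7 tabOk two rep4.1 (i := 0) (by simp)⟩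

theorem rank4 [CharP F 2] : ((el F [0, 3, 10, 15]).val - 1).rank = 63 := by
  have h := rank_sub_one (K := F) goodE7 two rankE7_4
  rw [el4_val]
  simpa [castWord, ChevalleyDatum.wordMat, mul_assoc] using h

theorem settingTop [Fintype F] [CharP F 2] :
    Setting goodE7 F (InClass chevE7 (mats F)) tbE7 repsTop mAll 7 where
  two := two
  sqrt := sqrtF
  small := by rw [npos_eq]; norm_num
  tab := tabOk
  conjX := fun i _ _ t u h => InClass.of_conj (Xr goodE7 i t) (Xr_mem_group goodE7 i t) u
    (by rwa [Xr_inv goodE7 two])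
  conjN := fun i _ hi u h => InClass.of_conj _ (goodE7.ni_mem_group hi) u h
  one := Or.inl rfl
  rep := by
    intro k hk f hf
    have hk' : k < 5 := hk
    interval_cases k
    · exact rep_inClass goodE7 tabOk two sqrtF rep0.1 rep0.2 (by decide) (by decide) (by rw [el0_val]; simp [mats]) f hf
    · exact rep_inClass goodE7 tabOk two sqrtF rep1.1 rep1.2 (by decide) (by decide) (by rw [el1_val]; simp [mats]) f hf
    · exact rep_inClass goodE7 tabOk two sqrtF rep2.1 rep2.2 (by decide) (by decide) (by rw [el2_val]; simp [mats]) f hf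
    · exact rep_inClass goodE7 tabOk two sqrtF rep3.1 rep3.2 (by decide) (by decide) (by rw [el3_val]; simp [mats]) f hf
    · exact rep_inClass goodE7 tabOk two sqrtF rep4.1 rep4.2 (by decide) (by decide) (by rw [el4_val]; simp [mats]) f hf

theorem seed [Fintype F] [CharP F 2] {R v : ℕ} (h : chkSeed R v = true)
    (hv : Sem goodE7 (InClass chevE7 (mats F)) v) {f d : ℕ → F}
    (hf : ∀ i < npos chevE7, R.testBit i = true ↔ f i ≠ 0)
    (hd : ∀ i < npos chevE7, mRad.testBit i = false → d i = f i)
    (hsq : Ok goodE7 (npos chevE7) d * Ok goodE7 (npos chevE7) d = 1) :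
    InClass chevE7 (mats F) (Ok goodE7 (npos chevE7) d) := by
  refine hv d (fun i hi e => ?_) (fun i hi e => ?_) hsq <;>
    have h' := allLt_eq_true h i hi <;>
    simp only [e, Bool.not_true, Bool.false_or, Bool.and_eq_true, Bool.not_eq_true'] at h'
  · rw [hd i hi h'.1.1.2]
    by_contra hne
    exact absurd ((hf i hi).2 hne) (by simp [h'.1.1.1])
  · rw [hd i hi h'.1.2.2]
    exact (hf i hi).1 h'.1.2.1

theorem settingLev [Fintype F] [CharP F 2] :
    Setting goodE7 F (Down goodE7 mRad (InClass chevE7 (mats F))) tbE7 repsLev mLev 6 where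
  two := two
  sqrt := sqrtF
  small := by rw [npos_eq]; norm_num
  tab := tabOk
  conjX := fun i hi _ t u h =>
    Down.conjX goodE7 two split_ok.2.2.1 (allLt_eq_true all_bits i hi)
      (settingTop.conjX i hi (allLt_eq_true all_bits i hi)) t u h
  conjN := fun i hi hi' u h =>
    Down.conjN goodE7 split_ok.2.1 hi (settingTop.conjN i (by omega) hi') u h
  one := Down.one goodE7 split_ok.2.2.2 fun c hc hsq =>
    seed seeds_ok.1 (classify settingTop certTop 2127 nodes_certTop 1054 (by norm_num))
      (f := fun _ => 0) (fun i _ => by simp) hc hsq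
  rep := by
    intro k hk f hf
    have hk' : k < 3 := hk
    interval_cases k
    · refine Down.rep goodE7 two split_ok.1 (fun i hi e => ?_) fun d hd hsq =>
        seed seeds_ok.2.1 (classify settingTop certTop 2127 nodes_certTop 1605 (by norm_num)) hf hd hsq
      have h' := allLt_eq_true seeds_ok.2.1 i hi
      by_contra hne
      have h'' : (72057594037927936 : ℕ).testBit i = true := (hf i hi).2 hne
      simp [h'', e] at h'
    · refine Down.rep goodE7 two split_ok.1 (fun i hi e => ?_) fun d hd hsq =>
        seed seeds_ok.2.2.1 (classify settingTop certTop 2127 nodes_certTop 1891 (by norm_num)) hf hd hsq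
      have h' := allLt_eq_true seeds_ok.2.2.1 i hi
      by_contra hne
      have h'' : (149533581377536 : ℕ).testBit i = true := (hf i hi).2 hne
      simp [h'', e] at h'
    · refine Down.rep goodE7 two split_ok.1 (fun i hi e => ?_) fun d hd hsq =>
        seed seeds_ok.2.2.2 (classify settingTop certTop 2127 nodes_certTop 2126 (by norm_num)) hf hd hsq
      have h' := allLt_eq_true seeds_ok.2.2.2 i hi
      by_contra hne
      have h'' : (72567901650944 : ℕ).testBit i = true := (hf i hi).2 hne
      simp [h'', e] at h'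

theorem classify_pos [Fintype F] [CharP F 2] (u : GL chevE7.Idx F)
    (hu : u ∈ chevE7.posUnipotent F) (h : u * u = 1) : InClass chevE7 (mats F) u := by
  obtain ⟨c, rfl⟩ := exists_Ok goodE7 hu
  refine descend goodE7 two split_ok.1 (fun f hf hsq => ?_)
    (fun i hi e => by rw [allLt_eq_true all_bits i hi] at e; cases e) h
  refine classify settingLev certLev 6423 nodes_certLev 6422 (by norm_num) f
    (fun i hi e => hf i hi ?_) (fun i hi e => ?_) hsq
  · have h' := allLt_eq_true root_ok i hi
    simp [e] at h'
    exact h'.1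
  · have h' := allLt_eq_true root_ok i hi
    simp [e] at h'

/-- The representatives. -/
def els (F : Type*) [Field F] : List (GL chevE7.Idx F) := [el F [0], el F [0, 3], el F [0, 3, 10], el F [0, 3, 15], el F [0, 3, 10, 15]]

theorem els_nodup [CharP F 2] : ∀ y₁ ∈ els F, ∀ y₂ ∈ els F,
    (∃ h ∈ chevE7.group F, h * y₁ * h⁻¹ = y₂) → y₁ = y₂ := by
  intro y₁ h₁ y₂ h₂ hc
  obtain ⟨h, -, e⟩ := hc
  have hr := rank_conj h y₁
  rw [e] at hr
  simp only [els, List.mem_cons, List.not_mem_nil, or_false] at h₁ h₂
  rcases h₁ with rfl | rfl | rfl | rfl | rfl <;> rcases h₂ with rfl | rfl | rfl | rfl | rfl <;>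
    first
      | (exfalso; simp only [rank0, rank1, rank2, rank3, rank4] at hr; omega)
      | rfl

theorem els_mem_order [CharP F 2] : ∀ y ∈ els F, y ∈ chevE7.group F ∧ orderOf y = 2 := by
  intro y hy
  simp only [els, List.mem_cons, List.not_mem_nil, or_false] at hy
  rcases hy with rfl | rfl | rfl | rfl | rfl
  exacts [el0_mem_order, el1_mem_order, el2_mem_order, el3_mem_order, el4_mem_order]

theorem mats_els {y : GL chevE7.Idx F} (h : (y : Matrix chevE7.Idx chevE7.Idx F) ∈ mats F) :
    y ∈ els F := by
  simp only [mats, List.mem_cons, List.not_mem_nil, or_false] at h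
  simp only [els, List.mem_cons, List.not_mem_nil, or_false]
  rcases h with h | h | h | h | h
  · exact Or.inl (Units.ext (h.trans el0_val.symm))
  · exact Or.inr (Or.inl (Units.ext (h.trans el1_val.symm)))
  · exact Or.inr (Or.inr (Or.inl (Units.ext (h.trans el2_val.symm))))
  · exact Or.inr (Or.inr (Or.inr (Or.inl (Units.ext (h.trans el3_val.symm)))))
  · exact Or.inr (Or.inr (Or.inr (Or.inr (Units.ext (h.trans el4_val.symm)))))

theorem els_distinct [CharP F 2] : (els F).Nodup := by
  have hr : ((els F).map fun y : GL chevE7.Idx F => (y.val - 1).rank) =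
      [34, 52, 62, 53, 63] := by
    simp only [els, List.map_cons, List.map_nil, rank0, rank1, rank2, rank3, rank4]
  refine List.Nodup.of_map (fun y : GL chevE7.Idx F => (y.val - 1).rank) ?_
  rw [hr]
  decide

theorem class_count [Fintype F] [CharP F 2] :
    (ConjClasses.mk '' {g : ↥(chevE7.group F) | orderOf g = 2}).ncard = 5 := by
  classical
  let lift : {y // y ∈ els F} → ConjClasses ↥(chevE7.group F) :=
    fun y => ConjClasses.mk ⟨y.1, (els_mem_order y.1 y.2).1⟩
  have himg : ConjClasses.mk '' {g : ↥(chevE7.group F) | orderOf g = 2} = Set.range lift := by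
    refine Set.Subset.antisymm ?_ ?_
    · rintro _ ⟨g, hg, rfl⟩
      obtain ⟨y, hy, hm, h, hh, e⟩ := group_classify goodE7 tabOk two classify_pos g.2
        ((Subgroup.orderOf_coe g).trans hg)
      refine ⟨⟨y, mats_els hm⟩, (ConjClasses.mk_eq_mk_iff_isConj.2 ?_).symm⟩
      exact isConj_iff.2 ⟨⟨h, hh⟩, Subtype.ext e⟩
    · rintro _ ⟨⟨y, hy⟩, rfl⟩
      exact ⟨⟨y, (els_mem_order y hy).1⟩,
        (Subgroup.orderOf_coe (⟨y, (els_mem_order y hy).1⟩ : ↥(chevE7.group F))).symm.trans
          (els_mem_order y hy).2, rfl⟩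
  have hinj : Function.Injective lift := by
    rintro ⟨y, hy⟩ ⟨y', hy'⟩ e
    obtain ⟨c, hc⟩ := isConj_iff.1 (ConjClasses.mk_eq_mk_iff_isConj.1 e)
    exact Subtype.ext (els_nodup y hy y' hy' ⟨c, c.2, congrArg Subtype.val hc⟩)
  rw [himg, Set.ncard_range_of_injective hinj]
  rw [Nat.card_eq_fintype_card, Fintype.card_of_subtype (els F).toFinset (fun y => List.mem_toFinset),
    List.toFinset_card_of_nodup els_distinct]
  rfl

end Cfsg.Agent.Lib.RankOne.InvolLevi.E7
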