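import Cfsg.Agent.Lib.RankOne.InvolLevi.ChkTabE8
import Cfsg.Agent.Lib.RankOne.InvolLevi.RankE8p3
import Cfsg.Agent.Lib.RankOne.InvolLevi.RankE8p2
import Cfsg.Agent.Lib.RankOne.InvolLevi.RankE8p1
import Cfsg.Agent.Lib.RankOne.InvolLevi.RankE8p0
import Cfsg.Agent.Lib.RankOne.InvolLevi.ChkE8Top0
import Cfsg.Agent.Lib.RankOne.InvolLevi.ChkE8Top1
import Cfsg.Agent.Lib.RankOne.InvolLevi.ChkE8Top2
import Cfsg.Agent.Lib.RankOne.InvolLevi.ChkE8Top3
import Cfsg.Agent.Lib.RankOne.InvolLevi.ChkE8Top4
import Cfsg.Agent.Lib.RankOne.InvolLevi.ChkE8Top5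
import Cfsg.Agent.Lib.RankOne.InvolLevi.ChkE8Top6
import Cfsg.Agent.Lib.RankOne.InvolLevi.ChkE8Top7
import Cfsg.Agent.Lib.RankOne.InvolLevi.ChkE8Top8
import Cfsg.Agent.Lib.RankOne.InvolLevi.ChkE8Top9
import Cfsg.Agent.Lib.RankOne.InvolLevi.ChkE8Top10
import Cfsg.Agent.Lib.RankOne.InvolLevi.ChkE8Top11
import Cfsg.Agent.Lib.RankOne.InvolLevi.ChkE8Top12
import Cfsg.Agent.Lib.RankOne.InvolLevi.ChkE8Top13
import Cfsg.Agent.Lib.RankOne.InvolLevi.ChkE8Top14
import Cfsg.Agent.Lib.RankOne.InvolLevi.ChkE8Top15
import Cfsg.Agent.Lib.RankOne.InvolLevi.ChkE8Top16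
import Cfsg.Agent.Lib.RankOne.InvolLevi.ChkE8Mid0
import Cfsg.Agent.Lib.RankOne.InvolLevi.ChkE8Mid1
import Cfsg.Agent.Lib.RankOne.InvolLevi.ChkE8Mid2
import Cfsg.Agent.Lib.RankOne.InvolLevi.ChkE8Mid3
import Cfsg.Agent.Lib.RankOne.InvolLevi.ChkE8Mid4
import Cfsg.Agent.Lib.RankOne.InvolLevi.ChkE8Lev0
import Cfsg.Agent.Lib.RankOne.InvolLevi.ChkE8Lev1
import Cfsg.Agent.Lib.RankOne.InvolLevi.ChkE8Lev2
import Cfsg.Agent.Lib.RankOne.InvolLevi.ChkE8Lev3
import Cfsg.Agent.Lib.RankOne.InvolLevi.ChkE8Lev4
import Cfsg.Agent.Lib.RankOne.InvolLevi.ChkE8Lev5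
import Cfsg.Agent.Lib.RankOne.InvolLevi.ChkE8Lev6
import Cfsg.Agent.Lib.RankOne.InvolLevi.ChkE8Lev7
import Cfsg.Agent.Lib.RankOne.InvolLevi.ChkE8Lev8

/-!
The involution classes of the Chevalley group of type E8 in characteristic two.
-/

set_option autoImplicit false
set_option maxRecDepth 100000

namespace Cfsg.Agent.Lib.RankOne.InvolLevi.E8

open Cfsg.Lie Cfsg.Agent.Lib.Chev Cfsg.Agent.Lib.Chev.Tw Cfsg.Agent.Lib.RankOne.InvolLevi

theorem npos_eq : npos chevE8 = 120 := by decide +kernel

theorem all_bits : allLt (npos chevE8) (fun i => m8All.testBit i) = true := by decide +kernel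

theorem sub_bits : allLt (npos chevE8) (fun i => !m8Lev6.testBit i || m8Lev7.testBit i) = true := by
  decide +kernel

/-- A node accepts the states made of a representative and arbitrary values on a radical. -/
def chkSeed (B R P v : ℕ) : Bool := allLt (npos chevE8) fun i =>
  ((nS v).testBit i || (!P.testBit i && !R.testBit i)) &&
    (!(nN v).testBit i || (P.testBit i && !R.testBit i)) && (!P.testBit i || B.testBit i)

theorem seedsTop : chkSeed m8Lev7 m8Rad8 0 (cert8Top.get 8256) = true ∧
    chkSeed m8Lev7 m8Rad8 2 (cert8Top.get 4589) = true ∧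
    chkSeed m8Lev7 m8Rad8 66 (cert8Top.get 5597) = true ∧
    chkSeed m8Lev7 m8Rad8 32834 (cert8Top.get 6669) = true ∧
    chkSeed m8Lev7 m8Rad8 2097218 (cert8Top.get 7020) = true ∧
    chkSeed m8Lev7 m8Rad8 2129986 (cert8Top.get 8143) = true := by
  decide +kernel

theorem seedsMid : chkSeed m8Lev6 m8Rad7 0 (cert8Mid.get 1054) = true ∧
    chkSeed m8Lev6 m8Rad7 19342813113834066795298816 (cert8Mid.get 1605) = true ∧
    chkSeed m8Lev6 m8Rad7 37181718523570814976 (cert8Mid.get 1891) = true ∧
    chkSeed m8Lev6 m8Rad7 18482772939447992320 (cert8Mid.get 2126) = true := by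
  decide +kernel

theorem nodes_cert8Top : ∀ id < 8257, chkNodeG chevE8 tabE8 m8All 8 tbE8 cert8Top repsE8Top id = true := by
  have h : ∀ id < 0, chkNodeG chevE8 tabE8 m8All 8 tbE8 cert8Top repsE8Top id = true :=
    fun id h => absurd h (Nat.not_lt_zero id)
  replace h := cover h cert8Top_nodes_0
  replace h := cover h cert8Top_nodes_64
  replace h := cover h cert8Top_nodes_128
  replace h := cover h cert8Top_nodes_192
  replace h := cover h cert8Top_nodes_256
  replace h := cover h cert8Top_nodes_320
  replace h := cover h cert8Top_nodes_384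
  replace h := cover h cert8Top_nodes_448
  replace h := cover h cert8Top_nodes_512
  replace h := cover h cert8Top_nodes_576
  replace h := cover h cert8Top_nodes_640
  replace h := cover h cert8Top_nodes_704
  replace h := cover h cert8Top_nodes_768
  replace h := cover h cert8Top_nodes_832
  replace h := cover h cert8Top_nodes_896
  replace h := cover h cert8Top_nodes_960
  replace h := cover h cert8Top_nodes_1024
  replace h := cover h cert8Top_nodes_1088
  replace h := cover h cert8Top_nodes_1152
  replace h := cover h cert8Top_nodes_1216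
  replace h := cover h cert8Top_nodes_1280
  replace h := cover h cert8Top_nodes_1344
  replace h := cover h cert8Top_nodes_1408
  replace h := cover h cert8Top_nodes_1472
  replace h := cover h cert8Top_nodes_1536
  replace h := cover h cert8Top_nodes_1600
  replace h := cover h cert8Top_nodes_1664
  replace h := cover h cert8Top_nodes_1728
  replace h := cover h cert8Top_nodes_1792
  replace h := cover h cert8Top_nodes_1856
  replace h := cover h cert8Top_nodes_1920
  replace h := cover h cert8Top_nodes_1984
  replace h := cover h cert8Top_nodes_2048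
  replace h := cover h cert8Top_nodes_2112
  replace h := cover h cert8Top_nodes_2176
  replace h := cover h cert8Top_nodes_2240
  replace h := cover h cert8Top_nodes_2304
  replace h := cover h cert8Top_nodes_2368
  replace h := cover h cert8Top_nodes_2432
  replace h := cover h cert8Top_nodes_2496
  replace h := cover h cert8Top_nodes_2560
  replace h := cover h cert8Top_nodes_2624
  replace h := cover h cert8Top_nodes_2688
  replace h := cover h cert8Top_nodes_2752
  replace h := cover h cert8Top_nodes_2816
  replace h := cover h cert8Top_nodes_2880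
  replace h := cover h cert8Top_nodes_2944
  replace h := cover h cert8Top_nodes_3008
  replace h := cover h cert8Top_nodes_3072
  replace h := cover h cert8Top_nodes_3136
  replace h := cover h cert8Top_nodes_3200
  replace h := cover h cert8Top_nodes_3264
  replace h := cover h cert8Top_nodes_3328
  replace h := cover h cert8Top_nodes_3392
  replace h := cover h cert8Top_nodes_3456
  replace h := cover h cert8Top_nodes_3520
  replace h := cover h cert8Top_nodes_3584
  replace h := cover h cert8Top_nodes_3648
  replace h := cover h cert8Top_nodes_3712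
  replace h := cover h cert8Top_nodes_3776
  replace h := cover h cert8Top_nodes_3840
  replace h := cover h cert8Top_nodes_3904
  replace h := cover h cert8Top_nodes_3968
  replace h := cover h cert8Top_nodes_4032
  replace h := cover h cert8Top_nodes_4096
  replace h := cover h cert8Top_nodes_4160
  replace h := cover h cert8Top_nodes_4224
  replace h := cover h cert8Top_nodes_4288
  replace h := cover h cert8Top_nodes_4352
  replace h := cover h cert8Top_nodes_4416
  replace h := cover h cert8Top_nodes_4480
  replace h := cover h cert8Top_nodes_4544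
  replace h := cover h cert8Top_nodes_4608
  replace h := cover h cert8Top_nodes_4672
  replace h := cover h cert8Top_nodes_4736
  replace h := cover h cert8Top_nodes_4800
  replace h := cover h cert8Top_nodes_4864
  replace h := cover h cert8Top_nodes_4928
  replace h := cover h cert8Top_nodes_4992
  replace h := cover h cert8Top_nodes_5056
  replace h := cover h cert8Top_nodes_5120
  replace h := cover h cert8Top_nodes_5184
  replace h := cover h cert8Top_nodes_5248
  replace h := cover h cert8Top_nodes_5312
  replace h := cover h cert8Top_nodes_5376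
  replace h := cover h cert8Top_nodes_5440
  replace h := cover h cert8Top_nodes_5504
  replace h := cover h cert8Top_nodes_5568
  replace h := cover h cert8Top_nodes_5632
  replace h := cover h cert8Top_nodes_5696
  replace h := cover h cert8Top_nodes_5760
  replace h := cover h cert8Top_nodes_5824
  replace h := cover h cert8Top_nodes_5888
  replace h := cover h cert8Top_nodes_5952
  replace h := cover h cert8Top_nodes_6016
  replace h := cover h cert8Top_nodes_6080
  replace h := cover h cert8Top_nodes_6144
  replace h := cover h cert8Top_nodes_6208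
  replace h := cover h cert8Top_nodes_6272
  replace h := cover h cert8Top_nodes_6336
  replace h := cover h cert8Top_nodes_6400
  replace h := cover h cert8Top_nodes_6464
  replace h := cover h cert8Top_nodes_6528
  replace h := cover h cert8Top_nodes_6592
  replace h := cover h cert8Top_nodes_6656
  replace h := cover h cert8Top_nodes_6720
  replace h := cover h cert8Top_nodes_6784
  replace h := cover h cert8Top_nodes_6848
  replace h := cover h cert8Top_nodes_6912
  replace h := cover h cert8Top_nodes_6976
  replace h := cover h cert8Top_nodes_7040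
  replace h := cover h cert8Top_nodes_7104
  replace h := cover h cert8Top_nodes_7168
  replace h := cover h cert8Top_nodes_7232
  replace h := cover h cert8Top_nodes_7296
  replace h := cover h cert8Top_nodes_7360
  replace h := cover h cert8Top_nodes_7424
  replace h := cover h cert8Top_nodes_7488
  replace h := cover h cert8Top_nodes_7552
  replace h := cover h cert8Top_nodes_7616
  replace h := cover h cert8Top_nodes_7680
  replace h := cover h cert8Top_nodes_7744
  replace h := cover h cert8Top_nodes_7808
  replace h := cover h cert8Top_nodes_7872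
  replace h := cover h cert8Top_nodes_7936
  replace h := cover h cert8Top_nodes_8000
  replace h := cover h cert8Top_nodes_8064
  replace h := cover h cert8Top_nodes_8128
  replace h := cover h cert8Top_nodes_8192
  replace h := cover h cert8Top_nodes_8256
  exact h

theorem nodes_cert8Mid : ∀ id < 2127, chkNodeG chevE8 tabE8 m8Lev7 7 tbE8 cert8Mid repsE8Mid id = true := by
  have h : ∀ id < 0, chkNodeG chevE8 tabE8 m8Lev7 7 tbE8 cert8Mid repsE8Mid id = true :=
    fun id h => absurd h (Nat.not_lt_zero id)
  replace h := cover h cert8Mid_nodes_0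
  replace h := cover h cert8Mid_nodes_64
  replace h := cover h cert8Mid_nodes_128
  replace h := cover h cert8Mid_nodes_192
  replace h := cover h cert8Mid_nodes_256
  replace h := cover h cert8Mid_nodes_320
  replace h := cover h cert8Mid_nodes_384
  replace h := cover h cert8Mid_nodes_448
  replace h := cover h cert8Mid_nodes_512
  replace h := cover h cert8Mid_nodes_576
  replace h := cover h cert8Mid_nodes_640
  replace h := cover h cert8Mid_nodes_704
  replace h := cover h cert8Mid_nodes_768
  replace h := cover h cert8Mid_nodes_832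
  replace h := cover h cert8Mid_nodes_896
  replace h := cover h cert8Mid_nodes_960
  replace h := cover h cert8Mid_nodes_1024
  replace h := cover h cert8Mid_nodes_1088
  replace h := cover h cert8Mid_nodes_1152
  replace h := cover h cert8Mid_nodes_1216
  replace h := cover h cert8Mid_nodes_1280
  replace h := cover h cert8Mid_nodes_1344
  replace h := cover h cert8Mid_nodes_1408
  replace h := cover h cert8Mid_nodes_1472
  replace h := cover h cert8Mid_nodes_1536
  replace h := cover h cert8Mid_nodes_1600
  replace h := cover h cert8Mid_nodes_1664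
  replace h := cover h cert8Mid_nodes_1728
  replace h := cover h cert8Mid_nodes_1792
  replace h := cover h cert8Mid_nodes_1856
  replace h := cover h cert8Mid_nodes_1920
  replace h := cover h cert8Mid_nodes_1984
  replace h := cover h cert8Mid_nodes_2048
  replace h := cover h cert8Mid_nodes_2112
  exact h

theorem nodes_cert8Lev : ∀ id < 6423, chkNodeG chevE8 tabE8 m8Lev6 6 tbE8 cert8Lev repsE8Lev id = true := by
  have h : ∀ id < 0, chkNodeG chevE8 tabE8 m8Lev6 6 tbE8 cert8Lev repsE8Lev id = true :=
    fun id h => absurd h (Nat.not_lt_zero id)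
  replace h := cover h cert8Lev_nodes_0
  replace h := cover h cert8Lev_nodes_64
  replace h := cover h cert8Lev_nodes_128
  replace h := cover h cert8Lev_nodes_192
  replace h := cover h cert8Lev_nodes_256
  replace h := cover h cert8Lev_nodes_320
  replace h := cover h cert8Lev_nodes_384
  replace h := cover h cert8Lev_nodes_448
  replace h := cover h cert8Lev_nodes_512
  replace h := cover h cert8Lev_nodes_576
  replace h := cover h cert8Lev_nodes_640
  replace h := cover h cert8Lev_nodes_704
  replace h := cover h cert8Lev_nodes_768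
  replace h := cover h cert8Lev_nodes_832
  replace h := cover h cert8Lev_nodes_896
  replace h := cover h cert8Lev_nodes_960
  replace h := cover h cert8Lev_nodes_1024
  replace h := cover h cert8Lev_nodes_1088
  replace h := cover h cert8Lev_nodes_1152
  replace h := cover h cert8Lev_nodes_1216
  replace h := cover h cert8Lev_nodes_1280
  replace h := cover h cert8Lev_nodes_1344
  replace h := cover h cert8Lev_nodes_1408
  replace h := cover h cert8Lev_nodes_1472
  replace h := cover h cert8Lev_nodes_1536
  replace h := cover h cert8Lev_nodes_1600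
  replace h := cover h cert8Lev_nodes_1664
  replace h := cover h cert8Lev_nodes_1728
  replace h := cover h cert8Lev_nodes_1792
  replace h := cover h cert8Lev_nodes_1856
  replace h := cover h cert8Lev_nodes_1920
  replace h := cover h cert8Lev_nodes_1984
  replace h := cover h cert8Lev_nodes_2048
  replace h := cover h cert8Lev_nodes_2112
  replace h := cover h cert8Lev_nodes_2176
  replace h := cover h cert8Lev_nodes_2240
  replace h := cover h cert8Lev_nodes_2304
  replace h := cover h cert8Lev_nodes_2368
  replace h := cover h cert8Lev_nodes_2432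
  replace h := cover h cert8Lev_nodes_2496
  replace h := cover h cert8Lev_nodes_2560
  replace h := cover h cert8Lev_nodes_2624
  replace h := cover h cert8Lev_nodes_2688
  replace h := cover h cert8Lev_nodes_2752
  replace h := cover h cert8Lev_nodes_2816
  replace h := cover h cert8Lev_nodes_2880
  replace h := cover h cert8Lev_nodes_2944
  replace h := cover h cert8Lev_nodes_3008
  replace h := cover h cert8Lev_nodes_3072
  replace h := cover h cert8Lev_nodes_3136
  replace h := cover h cert8Lev_nodes_3200
  replace h := cover h cert8Lev_nodes_3264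
  replace h := cover h cert8Lev_nodes_3328
  replace h := cover h cert8Lev_nodes_3392
  replace h := cover h cert8Lev_nodes_3456
  replace h := cover h cert8Lev_nodes_3520
  replace h := cover h cert8Lev_nodes_3584
  replace h := cover h cert8Lev_nodes_3648
  replace h := cover h cert8Lev_nodes_3712
  replace h := cover h cert8Lev_nodes_3776
  replace h := cover h cert8Lev_nodes_3840
  replace h := cover h cert8Lev_nodes_3904
  replace h := cover h cert8Lev_nodes_3968
  replace h := cover h cert8Lev_nodes_4032
  replace h := cover h cert8Lev_nodes_4096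
  replace h := cover h cert8Lev_nodes_4160
  replace h := cover h cert8Lev_nodes_4224
  replace h := cover h cert8Lev_nodes_4288
  replace h := cover h cert8Lev_nodes_4352
  replace h := cover h cert8Lev_nodes_4416
  replace h := cover h cert8Lev_nodes_4480
  replace h := cover h cert8Lev_nodes_4544
  replace h := cover h cert8Lev_nodes_4608
  replace h := cover h cert8Lev_nodes_4672
  replace h := cover h cert8Lev_nodes_4736
  replace h := cover h cert8Lev_nodes_4800
  replace h := cover h cert8Lev_nodes_4864
  replace h := cover h cert8Lev_nodes_4928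
  replace h := cover h cert8Lev_nodes_4992
  replace h := cover h cert8Lev_nodes_5056
  replace h := cover h cert8Lev_nodes_5120
  replace h := cover h cert8Lev_nodes_5184
  replace h := cover h cert8Lev_nodes_5248
  replace h := cover h cert8Lev_nodes_5312
  replace h := cover h cert8Lev_nodes_5376
  replace h := cover h cert8Lev_nodes_5440
  replace h := cover h cert8Lev_nodes_5504
  replace h := cover h cert8Lev_nodes_5568
  replace h := cover h cert8Lev_nodes_5632
  replace h := cover h cert8Lev_nodes_5696
  replace h := cover h cert8Lev_nodes_5760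
  replace h := cover h cert8Lev_nodes_5824
  replace h := cover h cert8Lev_nodes_5888
  replace h := cover h cert8Lev_nodes_5952
  replace h := cover h cert8Lev_nodes_6016
  replace h := cover h cert8Lev_nodes_6080
  replace h := cover h cert8Lev_nodes_6144
  replace h := cover h cert8Lev_nodes_6208
  replace h := cover h cert8Lev_nodes_6272
  replace h := cover h cert8Lev_nodes_6336
  replace h := cover h cert8Lev_nodes_6400
  exact h

theorem root_ok : allLt (npos chevE8) (fun i =>
    ((nS (cert8Lev.get 6422)).testBit i || !m8Lev6.testBit i) && !(nN (cert8Lev.get 6422)).testBit i) = true := by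
  decide +kernel

theorem rep0 : chkRepList chevE8 tbE8 664613997892457936451903530140172288 [119] = true ∧
    chkScale chevE8 tabE8 [(119, 239)] = true := by decide +kernel

theorem rep1 : chkRepList chevE8 tbE8 15576890575604482885591488987660288 [112, 113] = true ∧
    chkScale chevE8 tabE8 [(112, 232), (113, 233)] = true := by decide +kernel

theorem rep2 : chkRepList chevE8 tbE8 329906068709396701739517009199104 [108, 102, 98] = true ∧
    chkScale chevE8 tabE8 [(108, 228), (102, 222), (98, 218)] = true := by decide +kernel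

theorem rep3 : chkRepList chevE8 tbE8 82486420697663458477078445293568 [106, 100, 93, 96] = true ∧
    chkScale chevE8 tabE8 [(106, 226), (100, 220), (93, 213), (96, 216)] = true := by decide +kernel

variable {F : Type*} [Field F]

/-- The representatives as matrices. -/
abbrev mats (F : Type*) [Field F] : List (Matrix chevE8.Idx chevE8.Idx F) :=
  [Cfsg.Lie.chevE8.x F 239 1,
    Cfsg.Lie.chevE8.x F 232 1 * Cfsg.Lie.chevE8.x F 233 1,
    Cfsg.Lie.chevE8.x F 228 1 * Cfsg.Lie.chevE8.x F 222 1 * Cfsg.Lie.chevE8.x F 218 1,
    Cfsg.Lie.chevE8.x F 226 1 * Cfsg.Lie.chevE8.x F 220 1 * Cfsg.Lie.chevE8.x F 213 1 * Cfsg.Lie.chevE8.x F 216 1]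

/-- A representative. -/
abbrev el (F : Type*) [Field F] (L : List ℕ) : GL chevE8.Idx F := repEl goodE8 L

theorem two [CharP F 2] : (2 : F) = 0 := by exact_mod_cast CharP.cast_eq_zero F 2

theorem sqrtF [Fintype F] [CharP F 2] (a : F) : ∃ b : F, b ^ 2 = a := by
  obtain ⟨b, hb⟩ := FiniteField.isSquare_of_char_two (ringChar.eq F 2) a
  exact ⟨b, by rw [hb, pow_two]⟩

theorem el0_val : (el F [119]).val = Cfsg.Lie.chevE8.x F 239 1 := by
  simp [repEl, Xr, npos_eq, (goodE8).X_val, mul_assoc]

theorem el0_mem_order [CharP F 2] : el F [119] ∈ chevE8.group F ∧ orderOf (el F [119]) = 2 :=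
  ⟨repEl_mem _ _, orderOf_repEl goodE8 tabOkE8 two rep0.1 (i := 119) (by simp)⟩

theorem rank0 [CharP F 2] : ((el F [119]).val - 1).rank = 58 := by
  have h := rank_sub_one (K := F) goodE8 two rankE8_0
  rw [el0_val]
  simpa [castWord, ChevalleyDatum.wordMat, mul_assoc] using h

theorem el1_val : (el F [112, 113]).val = Cfsg.Lie.chevE8.x F 232 1 * Cfsg.Lie.chevE8.x F 233 1 := by
  simp [repEl, Xr, npos_eq, (goodE8).X_val, mul_assoc]

theorem el1_mem_order [CharP F 2] : el F [112, 113] ∈ chevE8.group F ∧ orderOf (el F [112, 113]) = 2 :=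
  ⟨repEl_mem _ _, orderOf_repEl goodE8 tabOkE8 two rep1.1 (i := 112) (by simp)⟩

theorem rank1 [CharP F 2] : ((el F [112, 113]).val - 1).rank = 92 := by
  have h := rank_sub_one (K := F) goodE8 two rankE8_1
  rw [el1_val]
  simpa [castWord, ChevalleyDatum.wordMat, mul_assoc] using h

theorem el2_val : (el F [108, 102, 98]).val = Cfsg.Lie.chevE8.x F 228 1 * Cfsg.Lie.chevE8.x F 222 1 * Cfsg.Lie.chevE8.x F 218 1 := by
  simp [repEl, Xr, npos_eq, (goodE8).X_val, mul_assoc]

theorem el2_mem_order [CharP F 2] : el F [108, 102, 98] ∈ chevE8.group F ∧ orderOf (el F [108, 102, 98]) = 2 :=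
  ⟨repEl_mem _ _, orderOf_repEl goodE8 tabOkE8 two rep2.1 (i := 108) (by simp)⟩

theorem rank2 [CharP F 2] : ((el F [108, 102, 98]).val - 1).rank = 110 := by
  have h := rank_sub_one (K := F) goodE8 two rankE8_2
  rw [el2_val]
  simpa [castWord, ChevalleyDatum.wordMat, mul_assoc] using h

theorem el3_val : (el F [106, 100, 93, 96]).val = Cfsg.Lie.chevE8.x F 226 1 * Cfsg.Lie.chevE8.x F 220 1 * Cfsg.Lie.chevE8.x F 213 1 * Cfsg.Lie.chevE8.x F 216 1 := by
  simp [repEl, Xr, npos_eq, (goodE8).X_val, mul_assoc]

theorem el3_mem_order [CharP F 2] : el F [106, 100, 93, 96] ∈ chevE8.group F ∧ orderOf (el F [106, 100, 93, 96]) = 2 :=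
  ⟨repEl_mem _ _, orderOf_repEl goodE8 tabOkE8 two rep3.1 (i := 106) (by simp)⟩

theorem rank3 [CharP F 2] : ((el F [106, 100, 93, 96]).val - 1).rank = 120 := by
  have h := rank_sub_one (K := F) goodE8 two rankE8_3
  rw [el3_val]
  simpa [castWord, ChevalleyDatum.wordMat, mul_assoc] using h

theorem settingTop [Fintype F] [CharP F 2] :
    Setting goodE8 F (InClass chevE8 (mats F)) tbE8 repsE8Top m8All 8 where
  two := two
  sqrt := sqrtF
  small := by rw [npos_eq]; norm_num
  tab := tabOkE8
  conjX := fun i _ _ t u h => InClass.of_conj (Xr goodE8 i t) (Xr_mem_group goodE8 i t) u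
    (by rwa [Xr_inv goodE8 two])
  conjN := fun i _ hi u h => InClass.of_conj _ (goodE8.ni_mem_group hi) u h
  one := Or.inl rfl
  rep := by
    intro k hk f hf
    have hk' : k < 4 := hk
    interval_cases k
    · exact rep_inClass goodE8 tabOkE8 two sqrtF rep0.1 rep0.2 (by decide) (by decide) (by rw [el0_val]; simp [mats]) f hf
    · exact rep_inClass goodE8 tabOkE8 two sqrtF rep1.1 rep1.2 (by decide) (by decide) (by rw [el1_val]; simp [mats]) f hf
    · exact rep_inClass goodE8 tabOkE8 two sqrtF rep2.1 rep2.2 (by decide) (by decide) (by rw [el2_val]; simp [mats]) f hf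
    · exact rep_inClass goodE8 tabOkE8 two sqrtF rep3.1 rep3.2 (by decide) (by decide) (by rw [el3_val]; simp [mats]) f hf

theorem seed {Gl : GL chevE8.Idx F → Prop} {B R P v : ℕ} (h : chkSeed B R P v = true)
    (hv : Sem goodE8 Gl v) {f d : ℕ → F}
    (hf : ∀ i < npos chevE8, P.testBit i = true ↔ f i ≠ 0)
    (hd : ∀ i < npos chevE8, R.testBit i = false → d i = f i)
    (hsq : Ok goodE8 (npos chevE8) d * Ok goodE8 (npos chevE8) d = 1) :
    Gl (Ok goodE8 (npos chevE8) d) := by
  refine hv d (fun i hi e => ?_) (fun i hi e => ?_) hsq <;>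
    have h' := allLt_eq_true h i hi <;>
    simp only [e, Bool.not_true, Bool.false_or, Bool.and_eq_true, Bool.not_eq_true'] at h'
  · rw [hd i hi h'.1.1.2]
    by_contra hne
    exact absurd ((hf i hi).2 hne) (by simp [h'.1.1.1])
  · rw [hd i hi h'.1.2.2]
    exact (hf i hi).1 h'.1.2.1

theorem seed_out {F : Type*} [Field F] {B R P v : ℕ} (h : chkSeed B R P v = true) {f : ℕ → F}
    (hf : ∀ i < npos chevE8, P.testBit i = true ↔ f i ≠ 0) {i : ℕ} (hi : i < npos chevE8)
    (e : B.testBit i = false) : f i = 0 := by
  have h' := allLt_eq_true h i hi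
  by_contra hne
  have h'' : P.testBit i = true := (hf i hi).2 hne
  simp [h'', e] at h'

theorem settingMid [Fintype F] [CharP F 2] :
    Setting goodE8 F (Down goodE8 m8Rad8 (InClass chevE8 (mats F))) tbE8 repsE8Mid m8Lev7 7 where
  two := two
  sqrt := sqrtF
  small := by rw [npos_eq]; norm_num
  tab := tabOkE8
  conjX := fun i hi hm t u h =>
    Down.conjX goodE8 two splitTopE8.2.2.1 (allLt_eq_true all_bits i hi)
      (settingTop.conjX i hi (allLt_eq_true all_bits i hi)) t u h
  conjN := fun i hi hi' u h =>
    Down.conjN goodE8 splitTopE8.2.1 hi (settingTop.conjN i (by omega) hi') u h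
  one := Down.one goodE8 splitTopE8.2.2.2 fun c hc hsq =>
    seed seedsTop.1 (classifyG settingTop cert8Top 8257 nodes_cert8Top 8256 (by norm_num))
      (f := fun _ => 0) (fun i _ => by simp) hc hsq
  rep := by
    intro k hk f hf
    have hk' : k < 5 := hk
    interval_cases k
    · exact Down.rep goodE8 two splitTopE8.1 (fun i hi e => seed_out seedsTop.2.1 hf hi e) fun d hd hsq =>
        seed seedsTop.2.1 (classifyG settingTop cert8Top 8257 nodes_cert8Top 4589 (by norm_num)) hf hd hsq
    · exact Down.rep goodE8 two splitTopE8.1 (fun i hi e => seed_out seedsTop.2.2.1 hf hi e) fun d hd hsq =>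
        seed seedsTop.2.2.1 (classifyG settingTop cert8Top 8257 nodes_cert8Top 5597 (by norm_num)) hf hd hsq
    · exact Down.rep goodE8 two splitTopE8.1 (fun i hi e => seed_out seedsTop.2.2.2.1 hf hi e) fun d hd hsq =>
        seed seedsTop.2.2.2.1 (classifyG settingTop cert8Top 8257 nodes_cert8Top 6669 (by norm_num)) hf hd hsq
    · exact Down.rep goodE8 two splitTopE8.1 (fun i hi e => seed_out seedsTop.2.2.2.2.1 hf hi e) fun d hd hsq =>
        seed seedsTop.2.2.2.2.1 (classifyG settingTop cert8Top 8257 nodes_cert8Top 7020 (by norm_num)) hf hd hsq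
    · exact Down.rep goodE8 two splitTopE8.1 (fun i hi e => seed_out seedsTop.2.2.2.2.2 hf hi e) fun d hd hsq =>
        seed seedsTop.2.2.2.2.2 (classifyG settingTop cert8Top 8257 nodes_cert8Top 8143 (by norm_num)) hf hd hsq

theorem settingLev [Fintype F] [CharP F 2] :
    Setting goodE8 F (Down goodE8 m8Rad7 (Down goodE8 m8Rad8 (InClass chevE8 (mats F)))) tbE8 repsE8Lev m8Lev6 6 where
  two := two
  sqrt := sqrtF
  small := by rw [npos_eq]; norm_num
  tab := tabOkE8
  conjX := fun i hi hm t u h =>
    Down.conjX goodE8 two splitMidE8.2.2.1 (by simpa [hm] using allLt_eq_true sub_bits i hi)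
      (settingMid.conjX i hi (by simpa [hm] using allLt_eq_true sub_bits i hi)) t u h
  conjN := fun i hi hi' u h =>
    Down.conjN goodE8 splitMidE8.2.1 hi (settingMid.conjN i (by omega) hi') u h
  one := Down.one goodE8 splitMidE8.2.2.2 fun c hc hsq =>
    seed seedsMid.1 (classifyG settingMid cert8Mid 2127 nodes_cert8Mid 1054 (by norm_num))
      (f := fun _ => 0) (fun i _ => by simp) hc hsq
  rep := by
    intro k hk f hf
    have hk' : k < 3 := hk
    interval_cases k
    · exact Down.rep goodE8 two splitMidE8.1 (fun i hi e => seed_out seedsMid.2.1 hf hi e) fun d hd hsq =>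
        seed seedsMid.2.1 (classifyG settingMid cert8Mid 2127 nodes_cert8Mid 1605 (by norm_num)) hf hd hsq
    · exact Down.rep goodE8 two splitMidE8.1 (fun i hi e => seed_out seedsMid.2.2.1 hf hi e) fun d hd hsq =>
        seed seedsMid.2.2.1 (classifyG settingMid cert8Mid 2127 nodes_cert8Mid 1891 (by norm_num)) hf hd hsq
    · exact Down.rep goodE8 two splitMidE8.1 (fun i hi e => seed_out seedsMid.2.2.2 hf hi e) fun d hd hsq =>
        seed seedsMid.2.2.2 (classifyG settingMid cert8Mid 2127 nodes_cert8Mid 2126 (by norm_num)) hf hd hsq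

theorem classify_pos [Fintype F] [CharP F 2] (u : GL chevE8.Idx F)
    (hu : u ∈ chevE8.posUnipotent F) (h : u * u = 1) : InClass chevE8 (mats F) u := by
  obtain ⟨c, rfl⟩ := exists_Ok goodE8 hu
  refine descend goodE8 two splitTopE8.1 (fun f hf hsq => ?_)
    (fun i hi e => by rw [allLt_eq_true all_bits i hi] at e; cases e) h
  refine descend goodE8 two splitMidE8.1 (fun g hg hsq' => ?_) hf hsq
  refine classifyG settingLev cert8Lev 6423 nodes_cert8Lev 6422 (by norm_num) g
    (fun i hi e => hg i hi ?_) (fun i hi e => ?_) hsq'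
  · have h' := allLt_eq_true root_ok i hi
    simp [e] at h'
    exact h'.1
  · have h' := allLt_eq_true root_ok i hi
    simp [e] at h'

theorem mem_cases {y : GL chevE8.Idx F} (h : (y : Matrix chevE8.Idx chevE8.Idx F) ∈ mats F) :
    y = el F [119] ∨ y = el F [112, 113] ∨ y = el F [108, 102, 98] ∨ y = el F [106, 100, 93, 96] := by
  simp only [mats, List.mem_cons, List.not_mem_nil, or_false] at h
  rcases h with h | h | h | h
  · exact Or.inl (Units.ext (h.trans el0_val.symm))
  · exact Or.inr (Or.inl (Units.ext (h.trans el1_val.symm)))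
  · exact Or.inr (Or.inr (Or.inl (Units.ext (h.trans el2_val.symm))))
  · exact Or.inr (Or.inr (Or.inr (Units.ext (h.trans el3_val.symm))))

theorem order_two [CharP F 2] {y : GL chevE8.Idx F}
    (h : (y : Matrix chevE8.Idx chevE8.Idx F) ∈ mats F) : y ∈ chevE8.group F ∧ orderOf y = 2 := by
  rcases mem_cases h with rfl | rfl | rfl | rfl
  exacts [el0_mem_order, el1_mem_order, el2_mem_order, el3_mem_order]

theorem classify_all [Fintype F] [CharP F 2] {g : GL chevE8.Idx F} (hg : g ∈ chevE8.group F)
    (ho : orderOf g = 2) : ∃ y ∈ chevE8.group F, (y : Matrix chevE8.Idx chevE8.Idx F) ∈ mats F ∧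
      ∃ h ∈ chevE8.group F, h * g * h⁻¹ = y :=
  group_classify goodE8 tabOkE8 two classify_pos hg ho

theorem distinct [CharP F 2] {y₁ y₂ : GL chevE8.Idx F}
    (h₁ : (y₁ : Matrix chevE8.Idx chevE8.Idx F) ∈ mats F)
    (h₂ : (y₂ : Matrix chevE8.Idx chevE8.Idx F) ∈ mats F)
    (hc : ∃ h ∈ chevE8.group F, h * y₁ * h⁻¹ = y₂) : y₁ = y₂ := by
  obtain ⟨h, -, e⟩ := hc
  have hr := rank_conj h y₁
  rw [e] at hr
  rcases mem_cases h₁ with rfl | rfl | rfl | rfl <;> rcases mem_cases h₂ with rfl | rfl | rfl | rfl <;>
    first
      | (exfalso; simp only [rank0, rank1, rank2, rank3] at hr; omega)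
      | rfl

end Cfsg.Agent.Lib.RankOne.InvolLevi.E8
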