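import Cfsg.Agent.Lib.Chev.Tw.Kinds
import Cfsg.Agent.Lib.Chev.Char

/-!
A checker for certificates that reduce every involution of the positive unipotent group of a
Chevalley group in characteristic two to given products of commuting root elements.

A state is a set of roots outside of which all coefficients vanish and a set of roots at which no
coefficient vanishes. A node of a certificate either reads off a monomial of the square, splits
according to a coefficient, conjugates so that a coefficient vanishes, applies a Weyl group element,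
or is one of the representatives.
-/

set_option autoImplicit false
set_option linter.unusedSectionVars false

namespace Cfsg.Agent.Lib.RankOne.InvolLevi

open Cfsg.Lie Cfsg.Agent.Lib.Chev Cfsg.Agent.Lib.Chev.Tw

/-! ### Polynomials over the two element field, monomials coded by products of primes -/

/-- The primes that stand for the variables. -/
def primesL : List ℕ :=
  [2, 3, 5, 7, 11, 13, 17, 19, 23, 29, 31, 37, 41, 43,
   47, 53, 59, 61, 67, 71, 73, 79, 83, 89, 97, 101, 103, 107,
   109, 113, 127, 131, 137, 139, 149, 151, 157, 163, 167, 173, 179, 181,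
   191, 193, 197, 199, 211, 223, 227, 229, 233, 239, 241, 251, 257, 263,
   269, 271, 277, 281, 283, 293, 307, 311, 313, 317, 331, 337, 347, 349,
   353, 359, 367, 373, 379, 383, 389, 397, 401, 409, 419, 421, 431, 433,
   439, 443, 449, 457, 461, 463, 467, 479, 487, 491, 499, 503, 509, 521,
   523, 541, 547, 557, 563, 569, 571, 577, 587, 593, 599, 601, 607, 613,
   617, 619, 631, 641, 643, 647, 653, 659, 661]

def pr (i : ℕ) : ℕ := nthNat primesL i

/-- Position in a list. -/
def pos : List ℕ → ℕ → ℕ
  | [], _ => 0
  | x :: l, q => if x = q then 0 else pos l q + 1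

theorem pr_facts : ∀ i < 121, pos primesL (pr i) = i ∧ (pr i).Prime := by decide +kernel

abbrev Poly := List ℕ

def pins (m : ℕ) : Poly → Poly
  | [] => [m]
  | x :: p => if m = x then p else if m < x then m :: x :: p else x :: pins m p

def padd (p q : Poly) : Poly := p.foldr pins q

def pmulm (m : ℕ) (p : Poly) : Poly := (p.map (m * ·)).foldr pins []

def pmul (p q : Poly) : Poly := p.foldr (fun m r => padd (pmulm m q) r) []

def ppow (p : Poly) : ℕ → Poly
  | 0 => [1]
  | k + 1 => pmul p (ppow p k)

section poly

variable {K : Type*} [Field K] (v : ℕ → K)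

/-- The value of a monomial. -/
def mev (m : ℕ) : K := if m = 0 then 0 else (m.primeFactorsList.map v).prod

theorem mev_one : mev v 1 = 1 := by simp [mev]

theorem mev_mul (a b : ℕ) : mev v (a * b) = mev v a * mev v b := by
  by_cases ha : a = 0
  · simp [mev, ha]
  by_cases hb : b = 0
  · simp [mev, hb]
  rw [mev, if_neg (mul_ne_zero ha hb), mev, if_neg ha, mev, if_neg hb,
    ((Nat.perm_primeFactorsList_mul ha hb).map v).prod_eq, List.map_append, List.prod_append]

theorem mev_prime {p : ℕ} (hp : p.Prime) : mev v p = v p := by
  simp [mev, hp.ne_zero, Nat.primeFactorsList_prime hp]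

theorem mev_congr {v' : ℕ → K} {m : ℕ} (h : ∀ q, q ∣ m → v q = v' q) : mev v m = mev v' m := by
  unfold mev
  split
  · rfl
  · exact congrArg List.prod
      (List.map_congr_left fun q hq => h q (Nat.dvd_of_mem_primeFactorsList hq))

/-- The value of a polynomial. -/
def pev (p : Poly) : K := (p.map (mev v)).sum

theorem pev_nil : pev v [] = 0 := rfl

theorem pev_cons (m : ℕ) (p : Poly) : pev v (m :: p) = mev v m + pev v p := by simp [pev]

theorem pev_single (m : ℕ) : pev v [m] = mev v m := by simp [pev]

variable (h2 : (2 : K) = 0)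
include h2

theorem pev_pins (m : ℕ) : ∀ p : Poly, pev v (pins m p) = mev v m + pev v p
  | [] => by simp [pins, pev]
  | x :: p => by
    simp only [pins]
    split_ifs with h1 h3
    · subst h1
      rw [pev_cons]
      linear_combination -(mev v m) * h2
    · rw [pev_cons]
    · rw [pev_cons, pev_pins m p, pev_cons]; ring

theorem pev_foldr : ∀ p q : Poly, pev v (p.foldr pins q) = pev v p + pev v q
  | [], q => by simp [pev_nil]
  | m :: p, q => by rw [List.foldr_cons, pev_pins v h2, pev_foldr p q, pev_cons]; ring

theorem pev_padd (p q : Poly) : pev v (padd p q) = pev v p + pev v q := pev_foldr v h2 p q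

theorem pev_pmulm (m : ℕ) (p : Poly) : pev v (pmulm m p) = mev v m * pev v p := by
  rw [pmulm, pev_foldr v h2, pev_nil, add_zero]
  induction p with
  | nil => simp [pev_nil]
  | cons a p ih => rw [List.map_cons, pev_cons, ih, mev_mul, pev_cons]; ring

theorem pev_pmul : ∀ p q : Poly, pev v (pmul p q) = pev v p * pev v q
  | [], q => by simp [pmul, pev_nil]
  | m :: p, q => by
    rw [show pmul (m :: p) q = padd (pmulm m q) (pmul p q) from rfl, pev_padd v h2,
      pev_pmulm v h2, pev_pmul p q, pev_cons]
    ring

theorem pev_ppow (p : Poly) : ∀ k : ℕ, pev v (ppow p k) = pev v p ^ k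
  | 0 => by simp [ppow, pev, mev_one]
  | k + 1 => by rw [ppow, pev_pmul v h2, pev_ppow p k, pow_succ]; ring

omit h2

/-- The part of a polynomial that a given prime divides, and the rest. -/
theorem pev_split (P : ℕ) : ∀ p : Poly,
    pev v p = pev v (p.filter fun m => m % P == 0) + pev v (p.filter fun m => !(m % P == 0))
  | [] => by simp [pev]
  | m :: p => by
    by_cases h : m % P = 0 <;>
    · simp [h, pev_cons, pev_split P p]
      ring

theorem pev_update (P : ℕ) (x : K) (p : Poly) :
    pev (Function.update v P x) (p.filter fun m => !(m % P == 0)) =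
      pev v (p.filter fun m => !(m % P == 0)) := by
  unfold pev
  refine congrArg List.sum (List.map_congr_left fun m hm => mev_congr _ fun q hq => ?_)
  refine Function.update_of_ne ?_ _ _
  rintro rfl
  have h := (List.mem_filter.1 hm).2
  simp [Nat.dvd_iff_mod_eq_zero.1 hq] at h

end poly

/-- Divide out a prime as often as possible. -/
def strip : ℕ → ℕ → ℕ → ℕ
  | 0, _, m => m
  | f + 1, p, m => if m % p = 0 then strip f p (m / p) else m

/-- Divide out the primes of a list. -/
def stripL : List ℕ → ℕ → ℕ
  | [], m => m
  | p :: l, m => stripL l (strip 12 p m)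

theorem strip_spec {K : Type*} [Field K] {v : ℕ → K} {p : ℕ} (hp : p.Prime) :
    ∀ f m, mev v m = 0 → (v p = 0 ∧ p ∣ m) ∨
      (mev v (strip f p m) = 0 ∧ strip f p m ∣ m)
  | 0, m, h => Or.inr ⟨h, dvd_rfl⟩
  | f + 1, m, h => by
    simp only [strip]
    split
    · rename_i h0
      have hd : p ∣ m := Nat.dvd_of_mod_eq_zero h0
      have e : m = p * (m / p) := (Nat.mul_div_cancel' hd).symm
      rw [e, mev_mul, mev_prime _ hp, mul_eq_zero] at h
      rcases h with h | h
      · exact Or.inl ⟨h, hd⟩
      · rcases strip_spec hp f (m / p) h with ⟨h1, h2⟩ | ⟨h1, h2⟩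
        · exact Or.inl ⟨h1, h2.trans (Nat.div_dvd_of_dvd hd)⟩
        · exact Or.inr ⟨h1, h2.trans (Nat.div_dvd_of_dvd hd)⟩
    · exact Or.inr ⟨h, dvd_rfl⟩

theorem stripL_spec {K : Type*} [Field K] {v : ℕ → K} :
    ∀ (l : List ℕ) (m : ℕ), (∀ p ∈ l, p.Prime) → stripL l m = 1 → mev v m = 0 →
      ∃ p ∈ l, v p = 0 ∧ p ∣ m
  | [], m, _, h1, h0 => by
    simp only [stripL] at h1
    subst h1
    simp [mev_one] at h0
  | p :: l, m, hl, h1, h0 => by
    rcases strip_spec (hl p List.mem_cons_self) 12 m h0 with h | ⟨h, hd⟩
    · exact ⟨p, List.mem_cons_self, h⟩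
    · obtain ⟨q, hq, hv, hqd⟩ :=
        stripL_spec l _ (fun x hx => hl x (List.mem_cons_of_mem _ hx)) h1 h
      exact ⟨q, List.mem_cons_of_mem _ hq, hv, hqd.trans hd⟩

/-! ### The commutator table -/

def decT : ℕ → ℕ → List (ℕ × ℕ × ℕ)
  | 0, _ => []
  | k + 1, v =>
    if v % 65536 = 0 then []
    else (v % 128 - 1, v / 128 % 4, v / 512 % 4) :: decT k (v / 65536)

/-- The terms with odd coefficient of two positive roots, numbered from the first positive one. -/
def tm (tb : BT) (i j : ℕ) : List (ℕ × ℕ × ℕ) := decT 2 (field (tb.get i) 32 j)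

def chkTab (D : ChevalleyDatum) (T : Tables) (tb : BT) : Bool :=
  allLt (npos D) fun i => allLt (npos D) fun j => i == j ||
    (((T.terms (npos D + i) (npos D + j)).filter fun c => !(c.2.1 % 2 == 0)).map
      fun c => (c.1 - npos D, c.2.2.1, c.2.2.2)) == tm tb i j

/-! ### Collection -/

/-- A word with polynomial coefficients. -/
abbrev Wd := List (ℕ × Poly)

/-- Appending a letter to a collected word, stored in reverse, forgetting roots beyond `g`. -/
def push (n : ℕ) (tb : BT) (g : ℕ) : ℕ → Wd → ℕ × Poly → Wd
  | 0, w, a => a :: w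
  | _ + 1, [], a => if g < a.1 || a.2 == [] then [] else [a]
  | f + 1, (s, y) :: w, (r, x) =>
    if g < r || x == [] then (s, y) :: w
    else if s = r then (if padd y x == [] then w else (s, padd y x) :: w)
    else if s < r || n ≤ r || n ≤ s then (r, x) :: (s, y) :: w
    else ((tm tb r s).map fun c => (c.1, pmul (ppow x c.2.1) (ppow y c.2.2))).foldl
      (push n tb g f) (push n tb g f (push n tb g f w (r, x)) (s, y))

def collect (n : ℕ) (tb : BT) (g : ℕ) (w : Wd) : Wd := w.foldl (push n tb g 200) []

def look : Wd → ℕ → Poly
  | [], _ => []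
  | (s, y) :: w, i => if s = i then y else look w i

/-- Strictly decreasing below a bound. -/
def descB : List ℕ → ℕ → Bool
  | [], _ => true
  | s :: w, b => decide (s < b) && descB w s

/-- Appending a root to a collected list of roots, stored in reverse. -/
def apush (n : ℕ) (tb : BT) : ℕ → List ℕ → ℕ → List ℕ
  | 0, w, r => r :: w
  | _ + 1, [], r => [r]
  | f + 1, s :: w, r =>
    if s = r then s :: w
    else if s < r || n ≤ r || n ≤ s then r :: s :: w
    else ((tm tb r s).map fun c => c.1).foldl
      (apush n tb f) (apush n tb f (apush n tb f w r) s)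

def acollect (n : ℕ) (tb : BT) (l : List ℕ) : List ℕ := l.foldl (apush n tb 200) []

/-! ### Nodes -/

/-- A field of a node. -/
def fld (v i : ℕ) : ℕ := field v 128 i

def nS (v : ℕ) : ℕ := fld v 1

def nN (v : ℕ) : ℕ := fld v 2

/-- The letters of a state. -/
def stL (n S : ℕ) : Wd := ((List.range n).filter fun i => S.testBit i).map fun i => (i, [pr i])

/-- A child node accepts the states with the given bounds. -/
def okKid (n : ℕ) (cert : BT) (id c : ℕ) (sup nz : ℕ → Bool) : Bool :=
  decide (c < id) && allLt n fun i =>
    (!sup i || (nS (cert.get c)).testBit i) && (!(nN (cert.get c)).testBit i || nz i)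

def chkEmpty (n v : ℕ) : Bool := allLt n fun i => !(nS v).testBit i

def chkSq (n : ℕ) (tb cert : BT) (id v : ℕ) : Bool :=
  let w := collect n tb (fld v 3) (stL n (nS v) ++ stL n (nS v))
  decide (fld v 3 < n) && descB (w.map Prod.fst) n &&
    match look w (fld v 3) with
    | [m] =>
      stripL (((List.range n).filter fun i => (nS v).testBit i).map pr) m == 1 &&
        allLt n fun i => !((nS v).testBit i && m % pr i == 0 && !(nN v).testBit i) ||
          anyLt (fld v 4) fun j => fld v (5 + 2 * j) == i &&
            okKid n cert id (fld v (6 + 2 * j)) (fun q => (nS v).testBit q && q != i)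
              (fun q => (nN v).testBit q && q != i)
    | _ => false

def chkSplit (n : ℕ) (cert : BT) (id v : ℕ) : Bool :=
  decide (fld v 3 < n) &&
    okKid n cert id (fld v 5) (fun q => (nS v).testBit q && q != fld v 3) (fun q => (nN v).testBit q) &&
    okKid n cert id (fld v 6) (fun q => (nS v).testBit q) (fun q => (nN v).testBit q || q == fld v 3)

/-- The letters of the conjugating element. -/
def elH (v : ℕ) : Wd := (List.range (fld v 4)).map fun j => (fld v (6 + 2 * j), [fld v (7 + 2 * j)])

def elW (n v : ℕ) : Wd := elH v ++ stL n (nS v) ++ (elH v).reverse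

def chkElimRes (n : ℕ) (cert : BT) (id v : ℕ) (w : Wd) (full : List ℕ) : Bool :=
  okKid n cert id (fld v 5)
    (fun i => full.contains i && i != fld v 3 && !(decide (i < fld v 3) && look w i == []))
    (fun i => decide (i < fld v 3) && (nN v).testBit i && look w i == [pr i])

/-- The monomial containing the parameter is a unit times its first or second power. -/
def chkLead (n : ℕ) (v m : ℕ) : Bool :=
  let P := pr n
  let ok := fun m0 => !(m0 % P == 0) &&
    stripL (((List.range n).filter fun i => (nN v).testBit i).map pr) m0 == 1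
  m % P == 0 && (ok (m / P) || ((m / P) % P == 0 && ok (m / P / P)))

def chkElim (n LA : ℕ) (tb cert : BT) (id v : ℕ) : Bool :=
  let w := collect n tb (fld v 3) (elW n v)
  let full := acollect n tb ((elW n v).map Prod.fst)
  decide (fld v 3 < n) && descB (w.map Prod.fst) n && descB full n &&
    (elH v).all (fun a => decide (a.1 < n) && LA.testBit a.1) &&
    (match (look w (fld v 3)).filter fun m => m % pr n == 0 with
    | [m] => chkLead n v m
    | _ => false) &&
    chkElimRes n cert id v w full

/-- The Weyl group word of a node. -/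
def mvWord (v : ℕ) : List ℕ := (List.range (fld v 4)).map fun j => fld v (6 + j)

def chkMove (D : ChevalleyDatum) (T : Tables) (rk : ℕ) (tb cert : BT) (id v : ℕ) : Bool :=
  let n := npos D
  let l := mvWord v
  let c := cert.get (fld v 5)
  decide (fld v 5 < id) && l.all (fun i => decide (i < D.rank) && decide (i < rk)) &&
    (allLt n fun i => !(nS v).testBit i ||
      (decide (n ≤ wl T l (n + i)) && (nS c).testBit (wl T l (n + i) - n) &&
        allLt n fun j => !(nS v).testBit j || i == j || tm tb i j == [])) &&
    allLt n fun j => !(nN c).testBit j ||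
      anyLt n fun i => (nS v).testBit i && (nN v).testBit i && wl T l (n + i) == n + j

def chkRep (n : ℕ) (reps : List ℕ) (v : ℕ) : Bool :=
  decide (fld v 3 < reps.length) && allLt n fun i =>
    (!(nS v).testBit i || (nthNat reps (fld v 3)).testBit i) &&
      (!(nthNat reps (fld v 3)).testBit i || (nN v).testBit i)

def chkNode (D : ChevalleyDatum) (T : Tables) (LA rk : ℕ) (tb cert : BT) (reps : List ℕ) (id : ℕ) : Bool :=
  let v := cert.get id
  let k := fld v 0
  if k = 0 then chkEmpty (npos D) v
  else if k = 1 then chkSq (npos D) tb cert id v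
  else if k = 2 then chkSplit (npos D) cert id v
  else if k = 3 then chkElim (npos D) LA tb cert id v
  else if k = 4 then chkMove D T rk tb cert id v
  else if k = 5 then chkRep (npos D) reps v
  else false

end Cfsg.Agent.Lib.RankOne.InvolLevi
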