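import Cfsg.Agent.Lib.RankOne.InvolLevi.Word

/-!
Soundness of the certificates: every element of square one of the positive unipotent group satisfies
a predicate that is invariant under conjugation and holds for the representatives.
-/

set_option autoImplicit false
set_option linter.unusedSectionVars false

namespace Cfsg.Agent.Lib.RankOne.InvolLevi

open Cfsg.Lie Cfsg.Agent.Lib.Chev Cfsg.Agent.Lib.Chev.Tw

variable {D : ChevalleyDatum} {T : Tables} {K : Type*} [Field K]

/-- The values of the variables. -/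
def vals (n : ℕ) (f : ℕ → K) (q : ℕ) : K :=
  if pos primesL q < n then f (pos primesL q) else 0

theorem vals_pr {n i : ℕ} (hn : n < 121) (hi : i < n) (f : ℕ → K) : vals n f (pr i) = f i := by
  simp [vals, (pr_facts i (by omega)).1, hi]

theorem pr_ne {n i : ℕ} (hn : n < 121) (hi : i < n) : pr i ≠ pr n := by
  intro e
  have := congrArg (pos primesL) e
  rw [(pr_facts i (by omega)).1, (pr_facts n hn).1] at this
  omega

/-- What the whole setting consists of. -/
structure Setting (G : Good D T) (K : Type*) [Field K] (Gl : GL D.Idx K → Prop) (tb : BT)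
    (reps : List ℕ) (LA rk : ℕ) : Prop where
  two : (2 : K) = 0
  sqrt : ∀ a : K, ∃ b, b ^ 2 = a
  small : npos D < 121
  tab : chkTab D T tb = true
  conjX : ∀ i < npos D, LA.testBit i = true → ∀ (t : K) (u : GL D.Idx K),
    Gl (Xr G i t * u * Xr G i t) → Gl u
  conjN : ∀ i < rk, i < D.rank → ∀ u : GL D.Idx K, Gl (G.ni K i * u * (G.ni K i)⁻¹) → Gl u
  one : Gl 1
  rep : ∀ k < reps.length, ∀ f : ℕ → K,
    (∀ i < npos D, (nthNat reps k).testBit i = true ↔ f i ≠ 0) → Gl (Ok G (npos D) f)

variable {G : Good D T} {Gl : GL D.Idx K → Prop} {tb : BT} {reps : List ℕ} {LA rk : ℕ}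

/-- The statement of a node. -/
def Sem (G : Good D T) (Gl : GL D.Idx K → Prop) (v : ℕ) : Prop :=
  ∀ f : ℕ → K, (∀ i < npos D, (nS v).testBit i = false → f i = 0) →
    (∀ i < npos D, (nN v).testBit i = true → f i ≠ 0) →
    Ok G (npos D) f * Ok G (npos D) f = 1 → Gl (Ok G (npos D) f)

theorem kid {cert : BT} {id c : ℕ} {sup nz : ℕ → Bool}
    (h : okKid (npos D) cert id c sup nz = true)
    (ih : ∀ c < id, Sem G Gl (cert.get c)) {f : ℕ → K}
    (h0 : ∀ i < npos D, sup i = false → f i = 0) (h1 : ∀ i < npos D, nz i = true → f i ≠ 0)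
    (hu : Ok G (npos D) f * Ok G (npos D) f = 1) : Gl (Ok G (npos D) f) := by
  simp only [okKid, Bool.and_eq_true, decide_eq_true_eq] at h
  obtain ⟨hc, hb⟩ := h
  refine ih c hc f (fun i hi e => h0 i hi ?_) (fun i hi e => h1 i hi ?_) hu
  · have := allLt_eq_true hb i hi
    simp only [Bool.and_eq_true, Bool.or_eq_true, Bool.not_eq_true', e] at this
    simpa using this.1
  · have := allLt_eq_true hb i hi
    simp only [Bool.and_eq_true, Bool.or_eq_true, Bool.not_eq_true', e] at this
    simpa using this.2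

theorem wev_stL (hn : npos D < 121) (S : ℕ) (v : ℕ → K) (f : ℕ → K)
    (hv : ∀ i < npos D, v (pr i) = f i)
    (h0 : ∀ i < npos D, S.testBit i = false → f i = 0) :
    wev G v (stL (npos D) S) = Ok G (npos D) f := by
  rw [wev, stL, List.map_map, Ok,
    Good'.prod_map_filter (fun i => S.testBit i) (fun i => Xr G i (f i)) (List.range (npos D))
      fun i hi e => by rw [h0 i (List.mem_range.1 hi) e, Xr_zero]]
  refine congrArg List.prod (List.map_congr_left fun i hi => ?_)
  have hi' := List.mem_range.1 (List.mem_filter.1 hi).1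
  simp [lev, pev_single, mev_prime v (pr_facts i (by omega)).2, hv i hi']

theorem sound_sq (Y : Setting G K Gl tb reps LA rk) {cert : BT} {id v : ℕ}
    (h : chkSq (npos D) tb cert id v = true) (ih : ∀ c < id, Sem G Gl (cert.get c)) :
    Sem G Gl v := by
  intro f h0 h1 hu
  simp only [chkSq, Bool.and_eq_true, decide_eq_true_eq] at h
  obtain ⟨⟨hg, hd⟩, hm⟩ := h
  set g := fld v 3
  set w := collect (npos D) tb g (stL (npos D) (nS v) ++ stL (npos D) (nS v))
  split at hm
  case h_2 => simp at hm
  rename_i m hlook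
  simp only [Bool.and_eq_true, beq_iff_eq] at hm
  obtain ⟨hs, hkids⟩ := hm
  have hv : ∀ i < npos D, vals (npos D) f (pr i) = f i := fun i hi => vals_pr Y.small hi f
  have e := collect_spec G Y.two Y.tab (vals (npos D) f) g
    (stL (npos D) (nS v) ++ stL (npos D) (nS v))
  rw [wev_append, wev_stL Y.small _ _ f hv h0, hu, wev_desc G _ (npos D) _ hd,
    ← Ok_zero_fun G (npos D)] at e
  have ez := Ok_inj G e hg le_rfl
  rw [hlook, pev_single] at ez
  obtain ⟨p, hp, hp0, hpm⟩ := stripL_spec _ m (fun p hp => by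
    obtain ⟨i, hi, rfl⟩ := List.mem_map.1 hp
    exact (pr_facts i (lt_trans (List.mem_range.1 (List.mem_filter.1 hi).1) Y.small)).2) hs ez
  obtain ⟨i, hi, rfl⟩ := List.mem_map.1 hp
  obtain ⟨hi', hiS⟩ := List.mem_filter.1 hi
  rw [List.mem_range] at hi'
  rw [hv i hi'] at hp0
  have hk := allLt_eq_true hkids i hi'
  have hN : (nN v).testBit i = false := by
    by_contra hc
    exact h1 i hi' (by simpa using hc) hp0
  simp only [hiS, hN, Nat.dvd_iff_mod_eq_zero.1 hpm, beq_self_eq_true, Bool.not_false,
    Bool.and_self, Bool.not_true, Bool.false_or] at hk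
  obtain ⟨j, -, hj⟩ := anyLt_eq_true hk
  simp only [Bool.and_eq_true, beq_iff_eq] at hj
  refine kid hj.2 ih (fun q hq e' => ?_) (fun q hq e' => ?_) hu
  · by_cases hqi : q = i
    · rw [hqi]; exact hp0
    · exact h0 q hq (by simpa [hqi] using e')
  · simp only [Bool.and_eq_true] at e'
    exact h1 q hq e'.1

theorem sound_split {cert : BT} {id v : ℕ}
    (h : chkSplit (npos D) cert id v = true) (ih : ∀ c < id, Sem G Gl (cert.get c)) :
    Sem G Gl v := by
  intro f h0 h1 hu
  simp only [chkSplit, Bool.and_eq_true, decide_eq_true_eq] at h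
  obtain ⟨⟨-, hA⟩, hB⟩ := h
  by_cases ha : f (fld v 3) = 0
  · refine kid hA ih (fun i hi e => ?_) h1 hu
    by_cases hia : i = fld v 3
    · rw [hia]; exact ha
    · exact h0 i hi (by simpa [hia] using e)
  · refine kid hB ih h0 (fun i hi e => ?_) hu
    simp only [Bool.or_eq_true, beq_iff_eq] at e
    rcases e with e | rfl
    · exact h1 i hi e
    · exact ha

theorem sound_elim (Y : Setting G K Gl tb reps LA rk) {cert : BT} {id v : ℕ}
    (h : chkElim (npos D) LA tb cert id v = true) (ih : ∀ c < id, Sem G Gl (cert.get c)) :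
    Sem G Gl v := by
  intro f h0 h1 hu
  simp only [chkElim, Bool.and_eq_true, decide_eq_true_eq] at h
  obtain ⟨⟨⟨⟨⟨hg, hd⟩, hdf⟩, hH⟩, hm⟩, hres⟩ := h
  set g := fld v 3
  set w := collect (npos D) tb g (elW (npos D) v)
  set full := acollect (npos D) tb ((elW (npos D) v).map Prod.fst)
  set P := pr (npos D)
  set v0 := vals (npos D) f
  split at hm
  case h_2 => simp at hm
  rename_i m hfil
  set B := pev v0 ((look w g).filter fun m => !(m % P == 0))
  -- the value of the monomial
  have hPp : P.Prime := (pr_facts _ Y.small).2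
  simp only [chkLead, Bool.and_eq_true, Bool.or_eq_true, beq_iff_eq] at hm
  obtain ⟨hmP, hm⟩ := hm
  have hlead : ∀ m0, m0 % P ≠ 0 →
      stripL (((List.range (npos D)).filter fun i => (nN v).testBit i).map pr) m0 = 1 →
      ∀ x : K, mev (Function.update v0 P x) m0 = mev v0 m0 ∧ mev v0 m0 ≠ 0 := by
    intro m0 hP hs x
    refine ⟨mev_congr _ fun q hq => Function.update_of_ne ?_ _ _, fun hz => ?_⟩
    · rintro rfl
      exact hP (Nat.dvd_iff_mod_eq_zero.1 hq)
    · obtain ⟨p, hp, hp0, -⟩ := stripL_spec _ m0 (fun p hp => by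
        obtain ⟨i, hi, rfl⟩ := List.mem_map.1 hp
        exact (pr_facts i (lt_trans (List.mem_range.1 (List.mem_filter.1 hi).1) Y.small)).2) hs hz
      obtain ⟨i, hi, rfl⟩ := List.mem_map.1 hp
      obtain ⟨hi', hiN⟩ := List.mem_filter.1 hi
      rw [List.mem_range] at hi'
      exact h1 i hi' hiN (by rwa [show v0 (pr i) = f i from vals_pr Y.small hi' f] at hp0)
  obtain ⟨x, hx⟩ : ∃ x : K, mev (Function.update v0 P x) m = B := by
    have e1 : m = P * (m / P) := (Nat.mul_div_cancel' (Nat.dvd_of_mod_eq_zero hmP)).symm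
    rcases hm with ⟨ha, hb⟩ | ⟨hc, ha, hb⟩
    · have ha' : (m / P) % P ≠ 0 := by simpa using ha
      refine ⟨B / mev v0 (m / P), ?_⟩
      obtain ⟨e2, e3⟩ := hlead _ ha' hb (B / mev v0 (m / P))
      generalize m / P = q at e1 e2 e3 ⊢
      rw [e1, mev_mul, mev_prime _ hPp, Function.update_self, e2, div_mul_cancel₀ _ e3]
    · have ha' : (m / P / P) % P ≠ 0 := by simpa using ha
      obtain ⟨b, hb'⟩ := Y.sqrt (B / mev v0 (m / P / P))
      refine ⟨b, ?_⟩
      obtain ⟨e2, e3⟩ := hlead _ ha' hb b
      rw [e1, ← (Nat.mul_div_cancel' (Nat.dvd_of_mod_eq_zero hc)), mev_mul, mev_mul,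
        mev_prime _ hPp, Function.update_self, e2, ← mul_assoc, ← pow_two, hb',
        div_mul_cancel₀ _ e3]
  set vv := Function.update v0 P x
  have hv : ∀ i < npos D, vv (pr i) = f i := fun i hi => by
    show Function.update v0 P x (pr i) = _
    rw [Function.update_of_ne (pr_ne Y.small hi)]
    exact vals_pr Y.small hi f
  have hgz : pev vv (look w g) = 0 := by
    rw [pev_split vv P, hfil, pev_single, hx, pev_update]
    linear_combination B * Y.two
  -- the conjugate
  set h := wev G vv (elH v) with hh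
  have hinv : h⁻¹ = wev G vv (elH v).reverse := by
    rw [hh, wev, wev, List.prod_inv_reverse, List.map_map, ← List.map_reverse]
    refine congrArg List.prod (List.map_congr_left fun a _ => ?_)
    exact Xr_inv G Y.two _ _
  have eW : wev G vv (elW (npos D) v) = h * Ok G (npos D) f * h⁻¹ := by
    rw [elW, wev_append, wev_append, wev_stL Y.small _ _ f hv h0, hinv]
  obtain ⟨d, hdd, hd0⟩ := RW_desc G (npos D) full _ hdf
    (acollect_spec G Y.two Y.tab vv (elW (npos D) v))
  have e := collect_spec G Y.two Y.tab vv g (elW (npos D) v)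
  rw [wev_desc G _ (npos D) _ hd, hdd] at e
  have hlow : ∀ i < npos D, i ≤ g → d i = pev vv (look w i) := fun i hi hig =>
    (Ok_inj G e hi hig).symm
  have hu' : Ok G (npos D) d * Ok G (npos D) d = 1 := by
    rw [← hdd, eW, show h * Ok G (npos D) f * h⁻¹ * (h * Ok G (npos D) f * h⁻¹) =
      h * (Ok G (npos D) f * Ok G (npos D) f) * h⁻¹ by group, hu, mul_one, mul_inv_cancel]
  have conjW : ∀ (L : Wd), (∀ a ∈ L, a.1 < npos D ∧ LA.testBit a.1 = true) → ∀ u,
      Gl (wev G vv L * u * (wev G vv L)⁻¹) → Gl u := by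
    intro L
    induction L with
    | nil => intro _ u hG; simpa [wev] using hG
    | cons a L ihL =>
      intro hL u hG
      obtain ⟨ha1, ha2⟩ := hL a List.mem_cons_self
      refine ihL (fun x hx => hL x (List.mem_cons_of_mem _ hx)) u
        (Y.conjX a.1 ha1 ha2 (pev vv a.2) _ ?_)
      convert hG using 1
      have e1 : wev G vv (a :: L) = Xr G a.1 (pev vv a.2) * wev G vv L := by simp [wev, lev]
      rw [e1]
      nth_rewrite 2 [← Xr_inv G Y.two a.1 (pev vv a.2)]
      group
  refine conjW (elH v) (fun a ha => ?_) _ ?_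
  · simpa using List.all_eq_true.1 hH a ha
  rw [← eW, hdd]
  refine kid hres ih (fun i hi e' => ?_) (fun i hi e' => ?_) hu'
  · by_cases hif : i ∈ full
    · by_cases hig : i = g
      · subst hig
        rw [hlow g hi le_rfl, hgz]
      · simp [hif, show i ≠ fld v 3 from hig] at e'
        rw [hlow i hi e'.1.le, e'.2, pev_nil]
    · exact hd0 i hif
  · simp only [Bool.and_eq_true, decide_eq_true_eq, beq_iff_eq] at e'
    rw [hlow i hi e'.1.1.le, e'.2, pev_single, mev_prime _ (pr_facts i (by have := Y.small; omega)).2,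
      hv i hi]
    exact h1 i hi e'.1.2

theorem commute_Xr (h2 : (2 : K) = 0) (htb : chkTab D T tb = true) {i j : ℕ}
    (hi : i < npos D) (hj : j < npos D) (h : i = j ∨ tm tb i j = []) (t u : K) :
    Commute (Xr G i t) (Xr G j u) := by
  rcases eq_or_ne i j with rfl | hne
  · show _ * _ = _ * _
    rw [Xr_add, Xr_add, add_comm]
  · show _ * _ = _ * _
    rw [swap G h2 htb hi hj hne, h.resolve_left hne]
    simp

theorem sound_move (Y : Setting G K Gl tb reps LA rk) {cert : BT} {id v : ℕ}
    (h : chkMove D T rk tb cert id v = true) (ih : ∀ c < id, Sem G Gl (cert.get c)) :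
    Sem G Gl v := by
  intro f h0 h1 hu
  simp only [chkMove, Bool.and_eq_true, decide_eq_true_eq, List.all_eq_true] at h
  obtain ⟨⟨⟨hc, hl⟩, himg⟩, hnz⟩ := h
  set l := mvWord v
  have he := G.even_n
  have hlW : IsW D l := fun i hi => (hl i hi).1
  set nw := G.nl K l with hnw
  let σ : ℕ → ℕ := fun i => wl T l ((npos D) + i) - (npos D)
  set L := (List.range (npos D)).filter fun i => (nS v).testBit i
  have hL : ∀ i ∈ L, i < (npos D) ∧ (nS v).testBit i = true := fun i hi =>
    ⟨List.mem_range.1 (List.mem_filter.1 hi).1, (List.mem_filter.1 hi).2⟩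
  have himg' : ∀ i ∈ L, (npos D) ≤ wl T l ((npos D) + i) ∧ wl T l ((npos D) + i) < D.nroots ∧ σ i < (npos D) ∧
      (nS (cert.get (fld v 5))).testBit (σ i) = true ∧
      ∀ j ∈ L, i = j ∨ tm tb i j = [] := by
    intro i hi
    obtain ⟨hi1, hi2⟩ := hL i hi
    have h' := allLt_eq_true himg i hi1
    simp only [hi2, Bool.not_true, Bool.false_or, Bool.and_eq_true, decide_eq_true_eq] at h'
    obtain ⟨⟨ha, hb⟩, hcm⟩ := h'
    have hlt := G.wl_lt hlW (add_npos_lt G hi1)
    refine ⟨ha, hlt, by simp only [σ]; omega, hb, fun j hj => ?_⟩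
    obtain ⟨hj1, hj2⟩ := hL j hj
    simpa [hj2] using allLt_eq_true hcm j hj1
  have hσ : ∀ i ∈ L, ∀ j ∈ L, σ i = σ j → i = j := by
    intro i hi j hj e
    have h1' := (himg' i hi).1
    have h2' := (himg' j hj).1
    have := G.wl_injective hlW (add_npos_lt G (hL i hi).1) (add_npos_lt G (hL j hj).1)
      (by simp only [σ] at e; omega)
    omega
  let f' : ℕ → K := fun j => ((L.find? fun i => σ i == j).map f).getD 0
  have hf' : ∀ i ∈ L, f' (σ i) = f i := by
    intro i hi
    simp only [f']
    rcases hfd : L.find? (fun q => σ q == σ i) with _ | q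
    · exact absurd (List.find?_eq_none.1 hfd i hi) (by simp)
    · have := hσ q (List.mem_of_find?_eq_some hfd) i hi
        (by simpa using List.find?_some hfd)
      simp [this]
  have hf0 : ∀ j, (∀ i ∈ L, σ i ≠ j) → f' j = 0 := by
    intro j hj
    simp only [f']
    rw [List.find?_eq_none.2 fun i hi => by simpa using hj i hi]
    rfl
  have hconj : ∀ i ∈ L, ∀ t : K, nw * Xr G i t * nw⁻¹ = Xr G (σ i) t := by
    intro i hi t
    obtain ⟨ha, hb, hc', -⟩ := himg' i hi
    rw [Xr_of_lt G (hL i hi).1, G.nl_conj_X hlW (add_npos_lt G (hL i hi).1), Xr_of_lt G hc']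
    congr 1
    · simp only [σ]; omega
    · rcases el_eq_or (T := T) l ((npos D) + i) with e | e
      · simp [e]
      · rw [e]; push_cast; linear_combination -t * Y.two
  have e1 : nw * Ok G (npos D) f * nw⁻¹ = ((L.map σ).map fun j => Xr G j (f' j)).prod := by
    rw [Ok, Good'.prod_map_filter (fun i => (nS v).testBit i) (fun i => Xr G i (f i)) (List.range (npos D))
      fun i hi e => by rw [h0 i (List.mem_range.1 hi) e, Xr_zero]]
    rw [List.map_map]
    show MulAut.conj nw (List.map (fun i => Xr G i (f i)) L).prod = _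
    rw [map_list_prod, List.map_map]
    refine congrArg List.prod (List.map_congr_left fun i hi => ?_)
    simp [hconj i hi, hf' i hi]
  set T' := (List.range (npos D)).filter fun j => (L.map σ).contains j
  have hperm : (L.map σ).Perm T' := by
    refine (List.perm_ext_iff_of_nodup ((List.nodup_range.filter _).map_on hσ)
      (List.nodup_range.filter _)).2 fun j => ?_
    simp only [T', List.mem_filter, List.mem_range, List.contains_iff_mem]
    constructor
    · intro hj
      refine ⟨?_, hj⟩
      obtain ⟨i, hi, rfl⟩ := List.mem_map.1 hj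
      exact (himg' i hi).2.2.1
    · exact fun hj => hj.2
  have e2 : nw * Ok G (npos D) f * nw⁻¹ = Ok G (npos D) f' := by
    rw [e1, Ok, Good'.prod_map_filter (fun j => (L.map σ).contains j) (fun j => Xr G j (f' j))
      (List.range (npos D)) fun j hj e => by
        rw [hf0 j (fun i hi hij => by simp [List.mem_map] at e; exact e i hi hij), Xr_zero]]
    refine (hperm.map _).prod_eq' (List.pairwise_of_forall_mem_list ?_)
    intro a ha b hb
    obtain ⟨ja, hja, rfl⟩ := List.mem_map.1 ha
    obtain ⟨jb, hjb, rfl⟩ := List.mem_map.1 hb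
    obtain ⟨i, hi, rfl⟩ := List.mem_map.1 hja
    obtain ⟨j, hj, rfl⟩ := List.mem_map.1 hjb
    rw [← hconj i hi, ← hconj j hj]
    exact (commute_Xr Y.two Y.tab (hL i hi).1 (hL j hj).1 ((himg' i hi).2.2.2.2 j hj)
      _ _).map (MulAut.conj nw).toMonoidHom
  have conjW : ∀ (m : List ℕ), (∀ i ∈ m, i < D.rank ∧ i < rk) → ∀ u,
      Gl (G.nl K m * u * (G.nl K m)⁻¹) → Gl u := by
    intro m
    induction m with
    | nil => intro _ u hG; simpa [G.nl_nil] using hG
    | cons a m ihm =>
      intro hm u hG
      obtain ⟨ha1, ha2⟩ := hm a List.mem_cons_self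
      refine ihm (fun x hx => hm x (List.mem_cons_of_mem _ hx)) u (Y.conjN a ha2 ha1 _ ?_)
      convert hG using 1
      rw [G.nl_cons]
      group
  refine conjW l hl _ ?_
  rw [← hnw, e2]
  refine ih _ hc f' (fun j hj e => hf0 j fun i hi hij => ?_) (fun j hj e => ?_) ?_
  · subst hij
    rw [(himg' i hi).2.2.2.1] at e
    cases e
  · have h' := allLt_eq_true hnz j hj
    simp only [e, Bool.not_true, Bool.false_or] at h'
    obtain ⟨i, hi, h''⟩ := anyLt_eq_true h'
    simp only [Bool.and_eq_true, beq_iff_eq] at h''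
    have hiL : i ∈ L := List.mem_filter.2 ⟨List.mem_range.2 hi, h''.1.1⟩
    have hs : σ i = j := by simp only [σ]; omega
    rw [← hs, hf' i hiL]
    exact h1 i hi h''.1.2
  · rw [← e2, show nw * Ok G (npos D) f * nw⁻¹ * (nw * Ok G (npos D) f * nw⁻¹) =
      nw * (Ok G (npos D) f * Ok G (npos D) f) * nw⁻¹ by group, hu, mul_one, mul_inv_cancel]

theorem sound_node (Y : Setting G K Gl tb reps LA rk) {cert : BT} {id : ℕ}
    (h : chkNode D T LA rk tb cert reps id = true) (ih : ∀ c < id, Sem G Gl (cert.get c)) :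
    Sem G Gl (cert.get id) := by
  unfold chkNode at h
  simp only at h
  split_ifs at h with a0 a1 a2 a3 a4 a5
  · intro f h0 _ _
    have : Ok G (npos D) f = 1 := by
      rw [Ok_congr G (f' := fun _ => 0) fun i hi =>
        h0 i hi (by simpa using allLt_eq_true h i hi), Ok_zero_fun]
    rw [this]; exact Y.one
  · exact sound_sq Y h ih
  · exact sound_split h ih
  · exact sound_elim Y h ih
  · exact sound_move Y h ih
  · intro f h0 h1 _
    simp only [chkRep, Bool.and_eq_true, decide_eq_true_eq] at h
    refine Y.rep _ h.1 f fun i hi => ?_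
    have h' := allLt_eq_true h.2 i hi
    simp only [Bool.and_eq_true, Bool.or_eq_true, Bool.not_eq_true'] at h'
    constructor
    · intro hR
      exact h1 i hi (h'.2.resolve_left (by simp [hR]))
    · intro hne
      rcases h'.1 with e | e
      · exact absurd (h0 i hi e) hne
      · exact e

/-- The states of a checked certificate satisfy the predicate. -/
theorem classify (Y : Setting G K Gl tb reps LA rk) (cert : BT) (num : ℕ)
    (hchk : ∀ id < num, chkNode D T LA rk tb cert reps id = true) :
    ∀ id < num, Sem G Gl (cert.get id) := by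
  intro id
  induction id using Nat.strong_induction_on with
  | _ id ih => intro hid; exact sound_node Y (hchk id hid) fun c hc => ih c hc (hc.trans hid)

end Cfsg.Agent.Lib.RankOne.InvolLevi
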