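import Cfsg.Agent.Lib.RankOne.InvolLevi.Sound

/-!
Reduction of the elements of square one of a closed set of positive roots to those of a smaller one
modulo a normal set of roots.
-/

set_option autoImplicit false
set_option linter.unusedSectionVars false

namespace Cfsg.Agent.Lib.RankOne.InvolLevi

open Cfsg.Lie Cfsg.Agent.Lib.Chev Cfsg.Agent.Lib.Chev.Tw

variable {D : ChevalleyDatum} {T : Tables} {K : Type*} [Field K]

/-- The roots of a mask. -/
def PS (D : ChevalleyDatum) (m : ℕ) : Set ℕ :=
  {r | npos D ≤ r ∧ m.testBit (r - npos D) = true}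

/-- The terms of the pairs from `A` and `R` lie in `C`. -/
def chkTerms (D : ChevalleyDatum) (T : Tables) (A R C : ℕ) : Bool :=
  allLt (npos D) fun i => !A.testBit i || allLt (npos D) fun j =>
    !R.testBit j || i == j ||
      (T.terms (npos D + i) (npos D + j)).all fun c =>
        decide (npos D ≤ c.1) && C.testBit (c.1 - npos D)

/-- The fundamental reflections below `rk` keep the roots of `R` inside. -/
def chkStable (D : ChevalleyDatum) (T : Tables) (rk R : ℕ) : Bool :=
  allLt rk fun k => decide (k < D.rank) && allLt (npos D) fun i =>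
    !R.testBit i || (decide (npos D ≤ T.w k (npos D + i)) &&
      R.testBit (T.w k (npos D + i) - npos D))

/-- `A` is the union of the closed sets `B` and `R`, the second one normal. -/
def chkSplitting (D : ChevalleyDatum) (T : Tables) (A B R : ℕ) : Bool :=
  chkTerms D T A A A && chkTerms D T B B B && chkTerms D T A R R &&
    allLt (npos D) fun i => A.testBit i == (B.testBit i || R.testBit i) &&
      !(B.testBit i && R.testBit i)

section
variable (G : Good D T)
include G

theorem Xr_mem_USub {m i : ℕ} (h : i < npos D → m.testBit i = true) (t : K) :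
    Xr G i t ∈ G.USub K (PS D m) := by
  unfold Xr; split
  · rename_i hi
    exact G.X_mem_USub (S := PS D m) (add_npos_lt G hi) (by omega) ⟨by omega, by simpa using h hi⟩ t
  · exact one_mem _

theorem closed_of_chk {m : ℕ} (h : chkTerms D T m m m = true) : Closed D T (PS D m) := by
  intro r hr s hs hrn hsn _ _ hne c hc
  have he := G.even_n
  have h1 := allLt_eq_true h (r - npos D) (by omega)
  simp only [hr.2, Bool.not_true, Bool.false_or] at h1
  have h2 := allLt_eq_true h1 (s - npos D) (by omega)
  have hij : ¬ (r - npos D = s - npos D) := by have := hr.1; have := hs.1; omega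
  simp only [hs.2, Bool.not_true, Bool.false_or, Bool.or_eq_true, beq_iff_eq, hij,
    false_or, List.all_eq_true, Bool.and_eq_true, decide_eq_true_eq,
    show npos D + (r - npos D) = r by have := hr.1; omega,
    show npos D + (s - npos D) = s by have := hs.1; omega] at h2
  exact h2 c hc

theorem exists_supp {m : ℕ} (h : chkTerms D T m m m = true) {x : GL D.Idx K}
    (hx : x ∈ G.USub K (PS D m)) :
    ∃ c : ℕ → K, (∀ i, m.testBit i = false → c i = 0) ∧ x = Ok G (npos D) c := by
  obtain ⟨t, ht, rfl⟩ := (G.mem_USub_iff (closed_of_chk G h)).1 hx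
  refine ⟨fun i => t (npos D + i), fun i hi => ht _ ?_, ?_⟩
  · intro hin
    have := hin.2
    simp [hi] at this
  · rw [Ok_eq_oprod]
    exact G.oprod_congr fun r h1 _ => by rw [show npos D + (r - npos D) = r by omega]

theorem Ok_mem_USub {m : ℕ} (k : ℕ) {c : ℕ → K} (h : ∀ i < k, m.testBit i = false → c i = 0) :
    Ok G k c ∈ G.USub K (PS D m) := by
  refine list_prod_mem fun z hz => ?_
  obtain ⟨i, hi, rfl⟩ := List.mem_map.1 hz
  by_cases hm : m.testBit i = true
  · exact Xr_mem_USub G (fun _ => hm) _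
  · rw [h i (List.mem_range.1 hi) (by simpa using hm), Xr_zero]; exact one_mem _

theorem X_conj_R (h2 : (2 : K) = 0) {A R : ℕ} (hAR : chkTerms D T A R R = true) {i : ℕ}
    (hi : A.testBit i = true) (t : K) {a : GL D.Idx K} (ha : a ∈ G.USub K (PS D R)) :
    Xr G i t * a * Xr G i t ∈ G.USub K (PS D R) := by
  by_cases hin : i < npos D
  swap
  · simp [Xr, hin, ha]
  have key : G.USub K (PS D R) ≤
      (G.USub K (PS D R)).comap (MulAut.conj (Xr G i t)).toMonoidHom := by
    refine G.USub_le_of (S := PS D R) fun q hq hp hqR u => ?_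
    show Xr G i t * G.X K q u * (Xr G i t)⁻¹ ∈ G.USub K (PS D R)
    rw [Xr_inv G h2]
    rw [Xr_of_lt G hin]
    by_cases hqi : q = npos D + i
    · subst hqi
      rw [G.X_add, G.X_add, show t + u + t = u by linear_combination t * h2]
      exact G.X_mem_USub hq hp hqR u
    have he := G.even_n
    have hne : q ≠ ng D (npos D + i) := by unfold ng; omega
    have hneg : G.X K (npos D + i) t * G.X K (npos D + i) t = 1 := by
      rw [G.X_add, show t + t = 0 by linear_combination t * h2, G.X_zero]
    rw [mul_assoc, G.commAt (npos D + i) q (add_npos_lt G hin) hq hqi hne t u, ← mul_assoc,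
      ← mul_assoc, hneg, one_mul]
    refine mul_mem (G.X_mem_USub hq hp hqR u) (G.wordG_mem ?_)
    intro p hp'
    simp only [Good.cw, List.mem_map] at hp'
    obtain ⟨c, hc, rfl⟩ := hp'
    obtain ⟨k, C, a', b'⟩ := c
    have h1 := allLt_eq_true hAR i hin
    simp only [hi, Bool.not_true, Bool.false_or] at h1
    have h1' := allLt_eq_true h1 (q - npos D) (by omega)
    have hij : ¬ (i = q - npos D) := by omega
    simp only [hqR.2, Bool.not_true, Bool.false_or, Bool.or_eq_true, beq_iff_eq, hij,
      false_or, List.all_eq_true, Bool.and_eq_true, decide_eq_true_eq,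
      show npos D + (q - npos D) = q by omega] at h1'
    exact G.X_mem_USub (S := PS D R) (G.mem_terms (add_npos_lt G hin) hq hc).1 (h1' _ hc).1
      ⟨(h1' _ hc).1, (h1' _ hc).2⟩ _
  have := key ha
  rwa [Subgroup.mem_comap, MulEquiv.coe_toMonoidHom, MulAut.conj_apply, Xr_inv G h2] at this

theorem ni_conj_R {rk R : ℕ} (h : chkStable D T rk R = true) {k : ℕ} (hk : k < rk)
    {a : GL D.Idx K} (ha : a ∈ G.USub K (PS D R)) :
    G.ni K k * a * (G.ni K k)⁻¹ ∈ G.USub K (PS D R) := by
  have h1 := allLt_eq_true h k hk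
  simp only [Bool.and_eq_true, decide_eq_true_eq] at h1
  have key : G.USub K (PS D R) ≤
      (G.USub K (PS D R)).comap (MulAut.conj (G.ni K k)).toMonoidHom := by
    refine G.USub_le_of (S := PS D R) fun q hq hp hqR u => ?_
    show G.ni K k * G.X K q u * (G.ni K k)⁻¹ ∈ G.USub K (PS D R)
    have he := G.even_n
    have h3 := allLt_eq_true h1.2 (q - npos D) (by omega)
    simp only [hqR.2, Bool.not_true, Bool.false_or, Bool.and_eq_true, decide_eq_true_eq,
      show npos D + (q - npos D) = q by omega] at h3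
    rw [G.ni_conj_X h1.1 hq]
    exact G.X_mem_USub (S := PS D R) (G.w_lt h1.1 hq) h3.1 ⟨h3.1, h3.2⟩ _
  exact key ha

theorem Ok_conj_R (h2 : (2 : K) = 0) {A R : ℕ} (hAR : chkTerms D T A R R = true) {c : ℕ → K}
    (hc : ∀ i < npos D, A.testBit i = false → c i = 0) :
    ∀ k, k ≤ npos D → ∀ a ∈ G.USub K (PS D R), (Ok G k c)⁻¹ * a * Ok G k c ∈ G.USub K (PS D R) := by
  intro k
  induction k with
  | zero => intro _ a ha; simpa [Ok] using ha
  | succ k ih =>
    intro hk a ha
    rw [Ok_succ, mul_inv_rev, Xr_inv G h2,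
      show Xr G k (c k) * (Ok G k c)⁻¹ * a * (Ok G k c * Xr G k (c k)) =
        Xr G k (c k) * ((Ok G k c)⁻¹ * a * Ok G k c) * Xr G k (c k) by group]
    by_cases hA : A.testBit k = true
    · exact X_conj_R G h2 hAR hA _ (ih (by omega) a ha)
    · rw [hc k (by omega) (by simpa using hA), Xr_zero, one_mul, mul_one]
      exact ih (by omega) a ha

/-- The part of the coefficients outside `R`. -/
def off (R : ℕ) (c : ℕ → K) (i : ℕ) : K := if R.testBit i then 0 else c i

theorem Ok_off_mem (h2 : (2 : K) = 0) {A R : ℕ} (hAR : chkTerms D T A R R = true) {c : ℕ → K}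
    (hc : ∀ i < npos D, A.testBit i = false → c i = 0) :
    ∀ k, k ≤ npos D → (Ok G k (off R c))⁻¹ * Ok G k c ∈ G.USub K (PS D R) := by
  intro k
  induction k with
  | zero => intro _; simp [Ok]
  | succ k ih =>
    intro hk
    have h := ih (by omega)
    rw [Ok_succ, Ok_succ]
    by_cases hR : R.testBit k = true
    · rw [show off R c k = 0 by simp [off, hR], Xr_zero, mul_one, ← mul_assoc]
      exact mul_mem h (Xr_mem_USub G (fun _ => hR) _)
    · rw [show off R c k = c k by simp [off, hR], mul_inv_rev, Xr_inv G h2,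
        show Xr G k (c k) * (Ok G k (off R c))⁻¹ * (Ok G k c * Xr G k (c k)) =
          Xr G k (c k) * ((Ok G k (off R c))⁻¹ * Ok G k c) * Xr G k (c k) by group]
      by_cases hA : A.testBit k = true
      · exact X_conj_R G h2 hAR hA _ h
      · rw [hc k (by omega) (by simpa using hA), Xr_zero, one_mul, mul_one]
        exact h

theorem eq_one_of_two {A B R : ℕ} (hs : chkSplitting D T A B R = true) {x : GL D.Idx K}
    (hB : x ∈ G.USub K (PS D B)) (hR : x ∈ G.USub K (PS D R)) : x = 1 := by
  simp only [chkSplitting, Bool.and_eq_true] at hs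
  obtain ⟨⟨⟨-, hBB⟩, hAR⟩, hall⟩ := hs
  obtain ⟨c, hc, rfl⟩ := exists_supp G hBB hB
  have hRR : chkTerms D T R R R = true := by
    have he := G.even_n
    refine allLt_intro fun i hi => ?_
    by_cases hRi : R.testBit i = true
    swap
    · simp [hRi]
    have hA : A.testBit i = true := by
      have := allLt_eq_true hall i hi
      simp only [hRi, Bool.or_true, Bool.and_eq_true, beq_iff_eq] at this
      exact this.1
    have := allLt_eq_true hAR i hi
    simp only [hA, hRi, Bool.not_true, Bool.false_or] at this ⊢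
    exact this
  obtain ⟨d, hd, e⟩ := exists_supp G hRR hR
  rw [Ok_congr G (f := c) (f' := fun _ => 0) fun i hi => ?_, Ok_zero_fun]
  have h1 := Ok_inj G (g := i) (Eqv.rfl' G e) hi le_rfl
  by_cases hBi : B.testBit i = true
  · have := allLt_eq_true hall i hi
    simp only [hBi, Bool.true_and, Bool.and_eq_true, Bool.not_eq_true'] at this
    rw [h1]
    exact hd i this.2
  · exact hc i (by simpa using hBi)
where
  allLt_intro {n : ℕ} {f : ℕ → Bool} (h : ∀ i < n, f i = true) : allLt n f = true := by
    induction n with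
    | zero => rfl
    | succ n ih => simp [allLt, h n (by omega), ih fun i hi => h i (by omega)]

theorem coord_off (h2 : (2 : K) = 0) {A B R : ℕ} (hs : chkSplitting D T A B R = true)
    {c d : ℕ → K} (hc : ∀ i < npos D, A.testBit i = false → c i = 0)
    (hd : ∀ i < npos D, A.testBit i = false → d i = 0)
    (h : (Ok G (npos D) c)⁻¹ * Ok G (npos D) d ∈ G.USub K (PS D R)) :
    ∀ i < npos D, off R c i = off R d i := by
  have hs' := hs
  simp only [chkSplitting, Bool.and_eq_true] at hs'
  obtain ⟨⟨⟨-, -⟩, hAR⟩, hall⟩ := hs'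
  have hsupp : ∀ e : ℕ → K, (∀ i < npos D, A.testBit i = false → e i = 0) →
      Ok G (npos D) (off R e) ∈ G.USub K (PS D B) := fun e he => by
    refine Ok_mem_USub G (npos D) fun i hi hB => ?_
    by_cases hR : R.testBit i = true
    · simp [off, hR]
    · have := allLt_eq_true hall i hi
      simp only [Bool.and_eq_true, beq_iff_eq] at this
      simp only [off, hR, if_false]
      exact he i hi (by rw [this.1, hB]; simpa using hR)
  have h1 := mul_mem (mul_mem (Ok_off_mem G h2 hAR hc _ le_rfl) h)
    (inv_mem (Ok_off_mem G h2 hAR hd _ le_rfl))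
  have h3 : (Ok G (npos D) (off R c))⁻¹ * Ok G (npos D) (off R d) = 1 := by
    refine eq_one_of_two G hs (mul_mem (inv_mem (hsupp c hc)) (hsupp d hd)) ?_
    convert h1 using 1
    group
  intro i hi
  exact Ok_inj G (g := i) (Eqv.rfl' G (inv_mul_eq_one.1 h3)) hi le_rfl

/-- The predicate on the smaller set of roots. -/
def Down (R : ℕ) (Gl : GL D.Idx K → Prop) (v : GL D.Idx K) : Prop :=
  ∀ a ∈ G.USub K (PS D R), v * a * (v * a) = 1 → Gl (v * a)

variable {Gl : GL D.Idx K → Prop}

theorem Down.conjX (h2 : (2 : K) = 0) {A R : ℕ} (hAR : chkTerms D T A R R = true) {i : ℕ}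
    (hA : A.testBit i = true) (hG : ∀ (t : K) (u : GL D.Idx K),
      Gl (Xr G i t * u * Xr G i t) → Gl u) (t : K) (v : GL D.Idx K)
    (h : Down G R Gl (Xr G i t * v * Xr G i t)) : Down G R Gl v := by
  intro a ha hsq
  refine hG t _ ?_
  have e : Xr G i t * Xr G i t = (1 : GL D.Idx K) := by
    rw [Xr_add, show t + t = 0 by linear_combination t * h2, Xr_zero]
  have h' := h _ (X_conj_R G h2 hAR hA t ha)
  have e' : Xr G i t * v * Xr G i t * (Xr G i t * a * Xr G i t) =
      Xr G i t * (v * a) * Xr G i t := by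
    calc _ = Xr G i t * v * (Xr G i t * Xr G i t) * a * Xr G i t := by group
      _ = _ := by rw [e]; group
  rw [e'] at h'
  refine h' ?_
  calc Xr G i t * (v * a) * Xr G i t * (Xr G i t * (v * a) * Xr G i t)
      = Xr G i t * (v * a) * (Xr G i t * Xr G i t) * (v * a) * Xr G i t := by group
    _ = Xr G i t * (v * a * (v * a)) * Xr G i t := by rw [e]; group
    _ = 1 := by rw [hsq, mul_one, e]

theorem Down.conjN {rk R : ℕ} (hst : chkStable D T rk R = true) {k : ℕ} (hk : k < rk)
    (hG : ∀ u : GL D.Idx K, Gl (G.ni K k * u * (G.ni K k)⁻¹) → Gl u) (v : GL D.Idx K)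
    (h : Down G R Gl (G.ni K k * v * (G.ni K k)⁻¹)) : Down G R Gl v := by
  intro a ha hsq
  refine hG _ ?_
  have h' := h _ (ni_conj_R G hst hk ha)
  rw [show G.ni K k * v * (G.ni K k)⁻¹ * (G.ni K k * a * (G.ni K k)⁻¹) =
    G.ni K k * (v * a) * (G.ni K k)⁻¹ by group] at h'
  refine h' ?_
  rw [show G.ni K k * (v * a) * (G.ni K k)⁻¹ * (G.ni K k * (v * a) * (G.ni K k)⁻¹) =
    G.ni K k * (v * a * (v * a)) * (G.ni K k)⁻¹ by group, hsq, mul_one, mul_inv_cancel]

theorem Down.one {R : ℕ} (hR : chkTerms D T R R R = true)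
    (hrad : ∀ c : ℕ → K, (∀ i < npos D, R.testBit i = false → c i = 0) →
      Ok G (npos D) c * Ok G (npos D) c = 1 → Gl (Ok G (npos D) c)) :
    Down G R Gl 1 := by
  intro a ha hsq
  rw [one_mul] at hsq ⊢
  obtain ⟨c, hc, rfl⟩ := exists_supp G hR ha
  exact hrad c (fun i _ h => hc i h) hsq

/-- A representative of the smaller set extends by a state with arbitrary values on `R`. -/
theorem Down.rep (h2 : (2 : K) = 0) {A B R : ℕ} (hs : chkSplitting D T A B R = true) {f : ℕ → K}
    (hf : ∀ i < npos D, B.testBit i = false → f i = 0)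
    (h : ∀ d : ℕ → K, (∀ i < npos D, R.testBit i = false → d i = f i) →
      Ok G (npos D) d * Ok G (npos D) d = 1 → Gl (Ok G (npos D) d)) :
    Down G R Gl (Ok G (npos D) f) := by
  intro a ha hsq
  have hs' := hs
  simp only [chkSplitting, Bool.and_eq_true] at hs'
  obtain ⟨⟨⟨hAA, -⟩, -⟩, hall⟩ := hs'
  have hA : ∀ i < npos D, A.testBit i = (B.testBit i || R.testBit i) ∧
      (B.testBit i && R.testBit i) = false := fun i hi => by
    have := allLt_eq_true hall i hi
    simp only [Bool.and_eq_true, beq_iff_eq, Bool.not_eq_true'] at this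
    exact this
  have hfA : ∀ i < npos D, A.testBit i = false → f i = 0 := fun i hi h' => hf i hi (by
    rw [(hA i hi).1, Bool.or_eq_false_iff] at h'; exact h'.1)
  have hmem : Ok G (npos D) f * a ∈ G.USub K (PS D A) := by
    refine mul_mem (Ok_mem_USub G (npos D) hfA) (G.USub_mono (S := PS D R) (S' := PS D A) (fun q hq hp hqR => ⟨hp, ?_⟩) ha)
    have he := G.even_n
    rw [(hA (q - npos D) (by omega)).1, hqR.2, Bool.or_true]
  obtain ⟨d, hd, e⟩ := exists_supp G hAA hmem
  have hd' : ∀ i < npos D, A.testBit i = false → d i = 0 := fun i _ h' => hd i h'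
  rw [e] at hsq ⊢
  refine h d (fun i hi hR => ?_) hsq
  have := coord_off G h2 hs hfA hd' (by rw [← e, inv_mul_cancel_left]; exact ha) i hi
  simpa [off, hR] using this.symm

/-- The step from the smaller set of roots to the larger one. -/
theorem descend (h2 : (2 : K) = 0) {A B R : ℕ} (hs : chkSplitting D T A B R = true)
    (hB : ∀ f : ℕ → K, (∀ i < npos D, B.testBit i = false → f i = 0) →
      Ok G (npos D) f * Ok G (npos D) f = 1 → Down G R Gl (Ok G (npos D) f))
    {c : ℕ → K} (hc : ∀ i < npos D, A.testBit i = false → c i = 0)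
    (hsq : Ok G (npos D) c * Ok G (npos D) c = 1) : Gl (Ok G (npos D) c) := by
  have hs' := hs
  simp only [chkSplitting, Bool.and_eq_true] at hs'
  obtain ⟨⟨⟨-, -⟩, hAR⟩, hall⟩ := hs'
  have hBz : ∀ i < npos D, B.testBit i = false → off R c i = 0 := by
    intro i hi hBi
    by_cases hR : R.testBit i = true
    · simp [off, hR]
    · have := allLt_eq_true hall i hi
      simp only [Bool.and_eq_true, beq_iff_eq] at this
      simp only [off, hR, if_false]
      exact hc i hi (by rw [this.1, hBi]; simpa using hR)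
  have hvA : ∀ i < npos D, A.testBit i = false → off R c i = 0 := fun i hi h' => by
    simp [off, hc i hi h']
  set v := Ok G (npos D) (off R c) with hv
  set a := v⁻¹ * Ok G (npos D) c with ha
  have haR : a ∈ G.USub K (PS D R) := Ok_off_mem G h2 hAR hc _ le_rfl
  have e : Ok G (npos D) c = v * a := by rw [ha, mul_inv_cancel_left]
  rw [e] at hsq ⊢
  refine hB _ hBz ?_ a haR hsq
  refine eq_one_of_two G hs (mul_mem (Ok_mem_USub G _ hBz) (Ok_mem_USub G _ hBz)) ?_
  have h1 := inv_mem (mul_mem (Ok_conj_R G h2 hAR hvA _ le_rfl a haR) haR)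
  rw [← hv] at h1 ⊢
  have e2 : (v⁻¹ * a * v * a)⁻¹ = v * v := by
    calc (v⁻¹ * a * v * a)⁻¹ = (v⁻¹ * v⁻¹ * (v * a * (v * a)))⁻¹ := by group
      _ = v * v := by rw [hsq, mul_one, mul_inv_rev, inv_inv]
  rwa [e2] at h1

end

end Cfsg.Agent.Lib.RankOne.InvolLevi
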